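import Mathlib

/-! Flatness along nonzerodivisors and short exact sequences. -/

set_option autoImplicit false

universe u

open TensorProduct

namespace Groth.Agent.RelDivLib

variable {R K M P : Type u} [CommRing R] [AddCommGroup K] [Module R K] [AddCommGroup M] [Module R M]
  [AddCommGroup P] [Module R P] (f : K →ₗ[R] M) (g : M →ₗ[R] P)

theorem flat_of_flat_ends (hf : Function.Injective f) (hg : Function.Surjective g) (hfg : Function.Exact f g)
    [Module.Flat R K] [Module.Flat R P] : Module.Flat R M := by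
  rw [Module.Flat.iff_lTensor_injective']
  intro I
  refine (injective_iff_map_eq_zero _).2 fun z hz => ?_
  have hc : ∀ {A B : Type u} [AddCommGroup A] [Module R A] [AddCommGroup B] [Module R B] (φ : A →ₗ[R] B)
      (w : A ⊗[R] I), I.subtype.lTensor B (φ.rTensor I w) = φ.rTensor R (I.subtype.lTensor A w) := by
    intro A B _ _ _ _ φ w
    rw [← LinearMap.comp_apply, ← LinearMap.comp_apply, LinearMap.lTensor_comp_rTensor, LinearMap.rTensor_comp_lTensor]
  have h1 : g.rTensor I z = 0 :=
    Module.Flat.lTensor_preserves_injective_linearMap (M := P) I.subtype Subtype.val_injective (by rw [hc, hz, map_zero, map_zero])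
  obtain ⟨w, rfl⟩ := (rTensor_exact I hfg hg z).1 h1
  rw [hc] at hz
  have hfR : Function.Injective (f.rTensor R) := Module.Flat.rTensor_preserves_injective_linearMap (M := R) f hf
  have h2 : w = 0 :=
    Module.Flat.lTensor_preserves_injective_linearMap (M := K) I.subtype Subtype.val_injective (by rw [hfR (hz.trans (map_zero _).symm), map_zero])
  rw [h2, map_zero]

theorem flat_of_flat_cokernel (hf : Function.Injective f) (hg : Function.Surjective g) (hfg : Function.Exact f g)
    [Module.Flat R M] [Module.Flat R P] : Module.Flat R K := by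
  rw [Module.Flat.iff_lTensor_injective']
  intro I
  refine (injective_iff_map_eq_zero _).2 fun z hz => ?_
  have h0 : Function.Injective (f.rTensor I) :=
    (LinearMap.lTensor_inj_iff_rTensor_inj _ _).1 (LinearMap.lTensor_injective_of_exact_of_flat g hg f hf hfg I)
  refine h0 (Module.Flat.lTensor_preserves_injective_linearMap (M := M) I.subtype Subtype.val_injective ?_)
  rw [map_zero, map_zero, ← LinearMap.comp_apply, LinearMap.lTensor_comp_rTensor, ← LinearMap.rTensor_comp_lTensor,
    LinearMap.comp_apply, hz, map_zero]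

variable {A B : Type u} [CommRing A] [CommRing B] [Algebra A B] {a b : B}

/-- `0 → B/b → B/ab → B/a → 0`. -/
theorem exists_exact_mul (ha : a ∈ nonZeroDivisors B) :
    ∃ (φ : (B ⧸ Ideal.span {b}) →ₗ[A] B ⧸ Ideal.span {a * b}) (ψ : (B ⧸ Ideal.span {a * b}) →ₗ[A] B ⧸ Ideal.span {a}),
      Function.Injective φ ∧ Function.Surjective ψ ∧ Function.Exact φ ψ := by
  let φ₀ : (B ⧸ Ideal.span {b}) →ₗ[B] B ⧸ Ideal.span {a * b} :=
    Submodule.mapQ _ _ (LinearMap.mulLeft B a) fun x hx => by
      obtain ⟨c, rfl⟩ := Ideal.mem_span_singleton.1 hx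
      exact Ideal.mem_span_singleton.2 ⟨c, (mul_assoc a b c).symm⟩
  let ψ₀ : (B ⧸ Ideal.span {a * b}) →ₗ[B] B ⧸ Ideal.span {a} :=
    Submodule.mapQ _ _ LinearMap.id fun x hx => by
      obtain ⟨c, rfl⟩ := Ideal.mem_span_singleton.1 hx
      exact Ideal.mem_span_singleton.2 ⟨b * c, mul_assoc a b c⟩
  refine ⟨φ₀.restrictScalars A, ψ₀.restrictScalars A, ?_, ?_, ?_⟩
  · refine (injective_iff_map_eq_zero _).2 fun x hx => ?_
    obtain ⟨x, rfl⟩ := Submodule.Quotient.mk_surjective _ x
    obtain ⟨c, hc⟩ := Ideal.mem_span_singleton.1 ((Submodule.Quotient.mk_eq_zero _).1 hx)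
    refine (Submodule.Quotient.mk_eq_zero _).2 (Ideal.mem_span_singleton.2 ⟨c, ?_⟩)
    refine (mul_cancel_left_mem_nonZeroDivisors ha).1 ?_
    rw [← mul_assoc]
    exact hc
  · intro x
    obtain ⟨x, rfl⟩ := Submodule.Quotient.mk_surjective _ x
    exact ⟨Submodule.Quotient.mk x, rfl⟩
  · intro x
    obtain ⟨x, rfl⟩ := Submodule.Quotient.mk_surjective _ x
    constructor
    · intro hx
      obtain ⟨c, hc⟩ := Ideal.mem_span_singleton.1 ((Submodule.Quotient.mk_eq_zero _).1 hx)
      exact ⟨Submodule.Quotient.mk c, congrArg Submodule.Quotient.mk (show a * c = x from hc.symm)⟩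
    · rintro ⟨c, hc⟩
      obtain ⟨c, rfl⟩ := Submodule.Quotient.mk_surjective _ c
      rw [← hc]
      exact (Submodule.Quotient.mk_eq_zero _).2 (Ideal.mem_span_singleton.2 ⟨c, rfl⟩)

theorem flat_quot_mul (ha : a ∈ nonZeroDivisors B) [Module.Flat A (B ⧸ Ideal.span {a})]
    [Module.Flat A (B ⧸ Ideal.span {b})] : Module.Flat A (B ⧸ Ideal.span {a * b}) := by
  obtain ⟨φ, ψ, h1, h2, h3⟩ := exists_exact_mul (A := A) (b := b) ha
  exact flat_of_flat_ends φ ψ h1 h2 h3

theorem flat_quot_of_mul (ha : a ∈ nonZeroDivisors B) [Module.Flat A (B ⧸ Ideal.span {a})]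
    [Module.Flat A (B ⧸ Ideal.span {a * b})] : Module.Flat A (B ⧸ Ideal.span {b}) := by
  obtain ⟨φ, ψ, h1, h2, h3⟩ := exists_exact_mul (A := A) (b := b) ha
  exact flat_of_flat_cokernel φ ψ h1 h2 h3

/-- A Noetherian local algebra is flat if it is so modulo a regular element of its maximal ideal. -/
theorem flat_of_flat_quot [IsLocalRing B] [IsNoetherianRing B] (ha : a ∈ nonZeroDivisors B)
    (ham : a ∈ IsLocalRing.maximalIdeal B) [Module.Flat A (B ⧸ Ideal.span {a})] : Module.Flat A B := by
  rw [Module.Flat.iff_lTensor_injective]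
  intro I hI
  haveI : Module.Finite A I := Module.Finite.iff_fg.2 hI
  rw [← AlgebraTensorModule.coe_lTensor (A := B)]
  refine (injective_iff_map_eq_zero _).2 fun z hz => ?_
  let μ : B →ₗ[A] B := LinearMap.mulLeft A a
  let π : B →ₗ[A] B ⧸ Ideal.span {a} := (Ideal.Quotient.mkₐ A (Ideal.span {a})).toLinearMap
  have hex : Function.Exact μ π := fun w => by
    show Ideal.Quotient.mk (Ideal.span {a}) w = 0 ↔ _
    rw [Ideal.Quotient.eq_zero_iff_mem, Ideal.mem_span_singleton]
    exact ⟨fun ⟨c, hc⟩ => ⟨c, hc.symm⟩, fun ⟨c, hc⟩ => ⟨c, hc.symm⟩⟩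
  have hπ : Function.Surjective π := Ideal.Quotient.mk_surjective
  have hsmul : ∀ {N : Type u} [AddCommGroup N] [Module A N] (w : B ⊗[A] N), a • w = μ.rTensor N w := fun w => by
    induction w with
    | zero => simp
    | tmul b n => rw [LinearMap.rTensor_tmul, TensorProduct.smul_tmul']; rfl
    | add u v hu hv => rw [smul_add, hu, hv, map_add]
  have hμR : ∀ w : B ⊗[A] A, a • w = 0 → w = 0 := fun w hw => by
    obtain ⟨b, rfl⟩ := (TensorProduct.rid A B).symm.surjective w
    have h1 := congrArg (TensorProduct.rid A B) hw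
    rw [TensorProduct.rid_symm_apply, TensorProduct.smul_tmul', TensorProduct.rid_tmul, one_smul, map_zero, smul_eq_mul, mul_comm] at h1
    rw [mem_nonZeroDivisors_iff_right.1 ha b h1, map_zero]
  have key : ∀ n : ℕ, ∀ w : B ⊗[A] I, AlgebraTensorModule.lTensor B B I.subtype w = 0 →
      w ∈ (Ideal.span {a} ^ n • ⊤ : Submodule B (B ⊗[A] I)) := by
    intro n
    induction n with
    | zero => intro w _; simp
    | succ n ih =>
      intro w hw
      have h1 : π.rTensor I w = 0 :=
        Module.Flat.lTensor_preserves_injective_linearMap (M := B ⧸ Ideal.span {a}) I.subtype Subtype.val_injective (by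
          rw [map_zero, ← LinearMap.comp_apply, LinearMap.lTensor_comp_rTensor, ← LinearMap.rTensor_comp_lTensor,
            LinearMap.comp_apply, show I.subtype.lTensor B w = 0 from hw, map_zero])
      obtain ⟨v, rfl⟩ := (rTensor_exact I hex hπ w).1 h1
      rw [← hsmul] at hw ⊢
      rw [map_smul] at hw
      rw [pow_succ', Submodule.mul_smul]
      exact Submodule.smul_mem_smul (Ideal.mem_span_singleton_self a) (ih v (hμR _ hw))
  have h0 : z ∈ (⨅ n : ℕ, Ideal.span {a} ^ n • ⊤ : Submodule B (B ⊗[A] I)) := (Submodule.mem_iInf _).2 fun n => key n z hz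
  rw [Ideal.iInf_pow_smul_eq_bot_of_isLocalRing (Ideal.span {a})
    (ne_top_of_le_ne_top (IsLocalRing.maximalIdeal.isMaximal B).ne_top ((Ideal.span_singleton_le_iff_mem _).2 ham))] at h0
  exact h0

end Groth.Agent.RelDivLib
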