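import Mathlib
import Groth.Agent.RelDivLib.Alg
import Groth.Prelude.Def_BlowUp2

/-! Relative effective Cartier divisors on affine charts. -/

set_option autoImplicit false
set_option backward.isDefEq.respectTransparency false
set_option backward.defeqAttrib.useBackward true
set_option linter.style.haveILetI false

universe u

open CategoryTheory AlgebraicGeometry

namespace Groth.Agent.RelDivLib

variable {X S : Scheme.{u}} (f : X ⟶ S)

theorem flat_quot_iff (I : X.IdealSheafData) {W : S.Opens} (V : X.affineOpens) (e : V.1 ≤ f ⁻¹ᵁ W) :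
    letI := (f.appLE W V.1 e).hom.toAlgebra
    Module.Flat Γ(S, W) (Γ(X, V.1) ⧸ I.ideal V) ↔
      ((I.subschemeι ≫ f).appLE W (I.subschemeι ⁻¹ᵁ V.1) (fun y hy => e hy)).hom.Flat := by
  letI := (f.appLE W V.1 e).hom.toAlgebra
  let j := I.subschemeι
  let q : Γ(X, V.1) →+* Γ(I.subscheme, j ⁻¹ᵁ V.1) := (j.app V.1).hom
  have hk : RingHom.ker q = I.ideal V := I.ker_subschemeι_app V
  letI := ((j ≫ f).appLE W (j ⁻¹ᵁ V.1) (fun y hy => e hy)).hom.toAlgebra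
  let eq : (Γ(X, V.1) ⧸ I.ideal V) ≃+* Γ(I.subscheme, j ⁻¹ᵁ V.1) :=
    (Ideal.quotEquivOfEq hk.symm).trans (RingHom.quotientKerEquivOfSurjective (f := q) (j.app_surjective V.1 V.2))
  have h2 : f.appLE W V.1 e ≫ j.app V.1 = (j ≫ f).appLE W (j ⁻¹ᵁ V.1) (fun y hy => e hy) := by
    rw [Scheme.Hom.app_eq_appLE, Scheme.Hom.appLE_comp_appLE]
  let E : (Γ(X, V.1) ⧸ I.ideal V) ≃ₗ[Γ(S, W)] Γ(I.subscheme, j ⁻¹ᵁ V.1) :=
    (AlgEquiv.ofRingEquiv (f := eq) fun a => by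
      show q ((f.appLE W V.1 e).hom a) = ((j ≫ f).appLE W (j ⁻¹ᵁ V.1) _).hom a
      exact congrArg (fun φ => φ.hom a) h2).toLinearEquiv
  refine ⟨fun h => Module.Flat.of_linearEquiv E.symm, fun h => ?_⟩
  haveI : Module.Flat Γ(S, W) Γ(I.subscheme, j ⁻¹ᵁ V.1) := h
  exact Module.Flat.of_linearEquiv E

theorem flat_of_charts (I : X.IdealSheafData)
    (h : ∀ x : X, x ∈ I.support → ∃ (W : S.affineOpens) (V : X.affineOpens) (_ : x ∈ V.1) (e : V.1 ≤ f ⁻¹ᵁ W.1),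
      letI := (f.appLE W.1 V.1 e).hom.toAlgebra; Module.Flat Γ(S, W.1) (Γ(X, V.1) ⧸ I.ideal V)) :
    Flat (I.subschemeι ≫ f) := by
  rw [HasRingHomProperty.iff_exists_appLE (P := @Flat)
    ((RingHom.Flat.stableUnderComposition.stableUnderCompositionWithLocalizationAway RingHom.Flat.holdsForLocalizationAway).left)]
  intro z
  have hz : I.subschemeι z ∈ I.support := by
    rw [← SetLike.mem_coe, ← I.range_subschemeι]
    exact Set.mem_range_self z
  obtain ⟨W, V, hxV, e, hflat⟩ := h _ hz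
  exact ⟨W, ⟨I.subschemeι ⁻¹ᵁ V.1, V.2.preimage I.subschemeι⟩, hxV, fun y hy => e hy, (flat_quot_iff f I V e).1 hflat⟩

theorem flat_quot_of_flat (I : X.IdealSheafData) [Flat (I.subschemeι ≫ f)] {W : S.Opens} (hW : IsAffineOpen W)
    (V : X.affineOpens) (e : V.1 ≤ f ⁻¹ᵁ W) :
    letI := (f.appLE W V.1 e).hom.toAlgebra
    Module.Flat Γ(S, W) (Γ(X, V.1) ⧸ I.ideal V) :=
  (flat_quot_iff f I V e).2 ((I.subschemeι ≫ f).flat_appLE hW (V.2.preimage I.subschemeι) _)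

/-- A generator on an affine open restricts to one on a smaller basic open. -/
theorem generator_res (I : X.IdealSheafData) (U : X.affineOpens) (r : Γ(X, U.1)) {g : Γ(X, U.1)}
    (hg : g ∈ nonZeroDivisors Γ(X, U.1)) (hI : I.ideal U = Ideal.span {g}) :
    ∃ g' : Γ(X, X.basicOpen r), g' ∈ nonZeroDivisors Γ(X, X.basicOpen r) ∧
      I.ideal (X.affineBasicOpen (U := U) r) = Ideal.span {g'} := by
  let ρ : Γ(X, U.1) →+* Γ(X, X.basicOpen r) := (X.presheaf.map (homOfLE (X.basicOpen_le r)).op).hom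
  letI : Algebra Γ(X, U.1) Γ(X, X.basicOpen r) := ρ.toAlgebra
  haveI : IsLocalization.Away r Γ(X, X.basicOpen r) := U.2.isLocalization_basicOpen r
  refine ⟨ρ g, IsLocalization.map_nonZeroDivisors_le (Submonoid.powers r) Γ(X, X.basicOpen r) ⟨g, hg, rfl⟩, ?_⟩
  rw [← I.map_ideal_basicOpen U r, hI, Ideal.map_span, Set.image_singleton]

/-- Two effective Cartier ideals are simultaneously principal near any point, over an affine open of the base. -/
theorem exists_common_chart {I J : X.IdealSheafData} (hI : BlowUp.IsEffCartierIdeal I) (hJ : BlowUp.IsEffCartierIdeal J)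
    (x : X) : ∃ (W : S.affineOpens) (V : X.affineOpens) (_ : V.1 ≤ f ⁻¹ᵁ W.1), x ∈ V.1 ∧
      (∃ a, a ∈ nonZeroDivisors Γ(X, V.1) ∧ I.ideal V = Ideal.span {a}) ∧
      (∃ b, b ∈ nonZeroDivisors Γ(X, V.1) ∧ J.ideal V = Ideal.span {b}) := by
  obtain ⟨U₁, hx₁, g₁, hg₁, hI₁⟩ := hI x
  obtain ⟨U₂, hx₂, g₂, hg₂, hJ₂⟩ := hJ x
  obtain ⟨_, ⟨W : S.Opens, hW, rfl⟩, hxW, -⟩ := S.isBasis_affineOpens.exists_subset_of_mem_open (Set.mem_univ (f x)) isOpen_univ
  obtain ⟨t, htle, hxt⟩ := U₁.2.exists_basicOpen_le (V := U₁.1 ⊓ f ⁻¹ᵁ W) ⟨x, hx₁, hxW⟩ hx₁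
  obtain ⟨a, b, hab, hxa⟩ := exists_basicOpen_le_affine_inter (U₁.2.basicOpen t) U₂.2 x ⟨hxt, hx₂⟩
  obtain ⟨g₁', hg₁', hI₁'⟩ := generator_res I U₁ t hg₁ hI₁
  obtain ⟨a', ha', hIa⟩ := generator_res I (X.affineBasicOpen (U := U₁) t) a hg₁' hI₁'
  obtain ⟨b', hb', hJb⟩ := generator_res J U₂ b hg₂ hJ₂
  have hV : X.affineBasicOpen (U := X.affineBasicOpen (U := U₁) t) a = X.affineBasicOpen (U := U₂) b := Subtype.ext hab
  refine ⟨⟨W, hW⟩, X.affineBasicOpen (U := X.affineBasicOpen (U := U₁) t) a,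
    (X.basicOpen_le a).trans (htle.trans inf_le_right), hxa, ⟨a', ha', hIa⟩, ?_⟩
  rw [hV]
  exact ⟨b', hb', hJb⟩

end Groth.Agent.RelDivLib
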