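import Mathlib
import Groth.Agent.RelDivLib.Scheme
import Groth.Agent.PullbackMod.Flat
import Groth.Agent.IdealStalkLib.Comap

/-! Base change of relative effective Cartier divisors. -/

set_option autoImplicit false
set_option backward.isDefEq.respectTransparency false
set_option backward.defeqAttrib.useBackward true
set_option linter.style.haveILetI false

universe u

open CategoryTheory CategoryTheory.Limits AlgebraicGeometry TensorProduct

namespace Groth.Agent.RelDivLib

/-- A nonzerodivisor with flat quotient stays a nonzerodivisor after base change. -/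
theorem mem_nonZeroDivisors_baseChange {A B A' P : Type u} [CommRing A] [CommRing B] [CommRing A'] [CommRing P]
    [Algebra A B] [Algebra A A'] [Algebra A P] [Algebra B P] [Algebra A' P] [IsScalarTower A B P]
    [IsScalarTower A A' P] [h : Algebra.IsPushout A A' B P] {g : B} (hg : g ∈ nonZeroDivisors B)
    [Module.Flat A (B ⧸ Ideal.span {g})] : algebraMap B P g ∈ nonZeroDivisors P := by
  let μ : B →ₗ[A] B := LinearMap.mulLeft A g
  let π : B →ₗ[A] B ⧸ Ideal.span {g} := (Ideal.Quotient.mkₐ A (Ideal.span {g})).toLinearMap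
  have hex : Function.Exact μ π := fun w => by
    show Ideal.Quotient.mk (Ideal.span {g}) w = 0 ↔ _
    rw [Ideal.Quotient.eq_zero_iff_mem, Ideal.mem_span_singleton]
    exact ⟨fun ⟨c, hc⟩ => ⟨c, hc.symm⟩, fun ⟨c, hc⟩ => ⟨c, hc.symm⟩⟩
  have hinj : Function.Injective (μ.lTensor A') :=
    LinearMap.lTensor_injective_of_exact_of_flat π Ideal.Quotient.mk_surjective μ
      (fun a b hab => (mul_cancel_left_mem_nonZeroDivisors hg).1 hab) hex A'
  let E : A' ⊗[A] B ≃ₗ[A'] P := h.out.equiv
  have hE : ∀ w, E (μ.lTensor A' w) = algebraMap B P g * E w := fun w => by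
    induction w with
    | zero => simp
    | tmul a b =>
      rw [LinearMap.lTensor_tmul, IsBaseChange.equiv_tmul, IsBaseChange.equiv_tmul]
      show a • algebraMap B P (g * b) = _ * a • algebraMap B P b
      rw [map_mul, mul_smul_comm]
    | add u v hu hv => rw [map_add, map_add, hu, hv, map_add, mul_add]
  refine mem_nonZeroDivisors_iff_right.2 fun z hz => ?_
  obtain ⟨w, rfl⟩ := E.surjective z
  have h0 : μ.lTensor A' w = 0 := E.injective (by rw [hE, map_zero, mul_comm]; exact hz)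
  rw [hinj (h0.trans (map_zero _).symm), map_zero]

variable {X S S' : Scheme.{u}}

theorem isEffCartier_baseChange (f : X ⟶ S) (D : X.IdealSheafData) (hD : BlowUp.IsEffCartierIdeal D)
    [Flat (D.subschemeι ≫ f)] (g : S' ⟶ S) : BlowUp.IsEffCartierIdeal (D.comap (pullback.fst f g)) := fun p => by
  have hc := IsPullback.of_hasPullback f g
  obtain ⟨W, V, e, hxV, ⟨c, hcn, hDc⟩, -⟩ := exists_common_chart f hD hD (pullback.fst f g p)
  have hpW : pullback.snd f g p ∈ g ⁻¹ᵁ W.1 := by
    show g (pullback.snd f g p) ∈ W.1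
    rw [← Scheme.Hom.comp_apply, ← pullback.condition, Scheme.Hom.comp_apply]
    exact e hxV
  obtain ⟨_, ⟨W' : S'.Opens, hW', rfl⟩, hpW', e'⟩ :=
    S'.isBasis_affineOpens.exists_subset_of_mem_open hpW (g ⁻¹ᵁ W.1).2
  obtain ⟨hP, hpo⟩ := PullbackMod.isPushout_appLE hc W.2 V.2 hW' e e'
  let P := pullback.fst f g ⁻¹ᵁ V.1 ⊓ pullback.snd f g ⁻¹ᵁ W'
  letI : Algebra Γ(S, W.1) Γ(X, V.1) := (f.appLE W.1 V.1 e).hom.toAlgebra
  letI : Algebra Γ(S, W.1) Γ(S', W') := (g.appLE W.1 W' e').hom.toAlgebra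
  letI : Algebra Γ(X, V.1) Γ(pullback f g, P) := ((pullback.fst f g).appLE V.1 P inf_le_left).hom.toAlgebra
  letI : Algebra Γ(S', W') Γ(pullback f g, P) := ((pullback.snd f g).appLE W' P inf_le_right).hom.toAlgebra
  letI : Algebra Γ(S, W.1) Γ(pullback f g, P) :=
    (((pullback.fst f g).appLE V.1 P inf_le_left).hom.comp (f.appLE W.1 V.1 e).hom).toAlgebra
  haveI : IsScalarTower Γ(S, W.1) Γ(X, V.1) Γ(pullback f g, P) := .of_algebraMap_eq fun _ => rfl
  haveI : IsScalarTower Γ(S, W.1) Γ(S', W') Γ(pullback f g, P) := .of_algebraMap_eq' (by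
    show ((f.appLE W.1 V.1 e) ≫ (pullback.fst f g).appLE V.1 P inf_le_left).hom =
      ((g.appLE W.1 W' e') ≫ (pullback.snd f g).appLE W' P inf_le_right).hom
    simp only [Scheme.Hom.appLE_comp_appLE, hc.w])
  haveI : Algebra.IsPushout Γ(S, W.1) Γ(S', W') Γ(X, V.1) Γ(pullback f g, P) := hpo
  have hfl := flat_quot_of_flat f D W.2 V e
  rw [hDc] at hfl
  haveI := hfl
  refine ⟨⟨P, hP⟩, ⟨hxV, hpW'⟩, algebraMap Γ(X, V.1) Γ(pullback f g, P) c,
    mem_nonZeroDivisors_baseChange (A := Γ(S, W.1)) (A' := Γ(S', W')) hcn, ?_⟩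
  refine (IdealStalkLib.comap_ideal D (pullback.fst f g) V.2 hP inf_le_left).trans ?_
  show (D.ideal V).map _ = _
  rw [hDc, Ideal.map_span, Set.image_singleton]
  rfl

end Groth.Agent.RelDivLib
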