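import Mathlib
import Groth.Agent.QRegLib.Basic
import Groth.Prelude.Def_CAlgX

/-! H₁-regular sequences are quasi-regular. -/

set_option autoImplicit false

universe u

open MvPolynomial

namespace Groth.Agent.RelDivLib

variable {R : Type u} [CommRing R] {c : ℕ}

/-- The trivial relations in degree `n + 1`. -/
noncomputable def trivRel (f : Fin c → R) (n : ℕ) : Submodule R (MvPolynomial (Fin c) R) :=
  Submodule.span R {P | ∃ (m : Fin c →₀ ℕ) (i j : Fin c), m.degree = n ∧
    P = C (f j) * (monomial m 1 * X i) - C (f i) * (monomial m 1 * X j)}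

theorem coeff_mem_of_mem_trivRel (f : Fin c → R) (n : ℕ) {P : MvPolynomial (Fin c) R} (hP : P ∈ trivRel f n)
    (d : Fin c →₀ ℕ) : P.coeff d ∈ Ideal.span (Set.range f) := by
  induction hP using Submodule.span_induction with
  | mem y hy =>
    obtain ⟨m, i, j, -, rfl⟩ := hy
    rw [coeff_sub, coeff_C_mul, coeff_C_mul]
    exact sub_mem (Ideal.mul_mem_right _ _ (Ideal.subset_span ⟨j, rfl⟩)) (Ideal.mul_mem_right _ _ (Ideal.subset_span ⟨i, rfl⟩))
  | zero => rw [coeff_zero]; exact zero_mem _
  | add y z _ _ hy hz => rw [coeff_add]; exact add_mem hy hz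
  | smul r y _ hy => rw [coeff_smul]; exact Ideal.mul_mem_left _ r hy

theorem exists_sum_X_mul (n : ℕ) {P : MvPolynomial (Fin c) R} (hP : P.IsHomogeneous (n + 1)) :
    ∃ Q : Fin c → MvPolynomial (Fin c) R, (∀ i, (Q i).IsHomogeneous n) ∧ P = ∑ i, X i * Q i := by
  classical
  suffices H : ∀ d ∈ P.support, ∃ Q : Fin c → MvPolynomial (Fin c) R, (∀ i, (Q i).IsHomogeneous n) ∧
      monomial d (P.coeff d) = ∑ i, X i * Q i by
    choose Q hQ hQe using H
    refine ⟨fun i => ∑ d ∈ P.support.attach, Q d.1 d.2 i, fun i => IsHomogeneous.sum _ _ _ fun d _ => hQ d.1 d.2 i, ?_⟩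
    conv_lhs => rw [P.as_sum, ← Finset.sum_attach]
    simp only [Finset.mul_sum]
    rw [Finset.sum_comm]
    exact Finset.sum_congr rfl fun d _ => hQe d.1 d.2
  intro d hd
  have hdeg : d.degree = n + 1 := (hP.degree_eq_sum_deg_support hd).symm
  obtain ⟨i, hi⟩ : ∃ i, d i ≠ 0 := by
    by_contra hn
    push Not at hn
    rw [show d = 0 from Finsupp.ext hn, map_zero] at hdeg
    exact Nat.succ_ne_zero n hdeg.symm
  have hsplit : Finsupp.single i 1 + (d - Finsupp.single i 1) = d :=
    add_tsub_cancel_of_le (Finsupp.single_le_iff.2 (Nat.one_le_iff_ne_zero.2 hi))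
  refine ⟨Pi.single i (monomial (d - Finsupp.single i 1) (P.coeff d)), fun k => ?_, ?_⟩
  · by_cases hk : k = i
    · subst hk
      rw [Pi.single_eq_same]
      refine isHomogeneous_monomial _ ?_
      have h2 := congrArg Finsupp.degree hsplit
      rw [map_add, Finsupp.degree_single, hdeg] at h2
      omega
    · rw [Pi.single_eq_of_ne hk]
      exact isHomogeneous_zero _ _ _
  · rw [Finset.sum_eq_single i (fun k _ hk => by rw [Pi.single_eq_of_ne hk, mul_zero])
      (fun h => absurd (Finset.mem_univ i) h), Pi.single_eq_same, X, monomial_mul, one_mul, hsplit]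

theorem mem_trivRel_of_eval_eq_zero {f : Fin c → R} (hf : CAlgX.IsH1Regular f) :
    ∀ (n : ℕ) (P : MvPolynomial (Fin c) R), P.IsHomogeneous (n + 1) → eval f P = 0 → P ∈ trivRel f n := by
  classical
  have key : ∀ (n : ℕ) (Q : Fin c → MvPolynomial (Fin c) R), (∀ i, (Q i).IsHomogeneous n) → ∑ i, C (f i) * Q i = 0 →
      ∑ i, X i * Q i ∈ trivRel f n := by
    intro n Q hQ h0
    let T := Finset.univ.biUnion fun i => (Q i).support
    have hsum : ∀ i, Q i = ∑ a ∈ T, monomial a ((Q i).coeff a) := fun i => by
      conv_lhs => rw [(Q i).as_sum]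
      exact Finset.sum_subset (Finset.subset_biUnion_of_mem (fun i => (Q i).support) (Finset.mem_univ i))
        fun a _ ha => by rw [notMem_support_iff.1 ha, map_zero]
    rw [Finset.sum_congr rfl fun i _ => by rw [hsum i, Finset.mul_sum], Finset.sum_comm]
    refine sum_mem fun a ha => ?_
    obtain ⟨i₀, -, hi₀⟩ := Finset.mem_biUnion.1 ha
    have hdeg : a.degree = n := ((hQ i₀).degree_eq_sum_deg_support hi₀).symm
    have hv : ∑ i, (Q i).coeff a * f i = 0 := by
      have h1 := congrArg (fun p => p.coeff a) h0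
      simp only [coeff_sum, coeff_C_mul, coeff_zero] at h1
      rw [← h1]
      exact Finset.sum_congr rfl fun i _ => mul_comm _ _
    have hall : ∀ v ∈ Submodule.span R {v : Fin c → R | ∃ i j : Fin c, v = Pi.single i (f j) - Pi.single j (f i)},
        ∑ i, X i * monomial a (v i) ∈ trivRel f n := by
      intro v hv'
      induction hv' using Submodule.span_induction with
      | mem y hy =>
        obtain ⟨i, j, rfl⟩ := hy
        have hs : ∀ (k : Fin c) (r : R), ∑ l, X l * monomial a ((Pi.single k r : Fin c → R) l) = C r * (monomial a 1 * X k) := by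
          intro k r
          rw [Finset.sum_eq_single k (fun l _ hl => by rw [Pi.single_eq_of_ne hl, map_zero, mul_zero])
            (fun h => absurd (Finset.mem_univ k) h), Pi.single_eq_same,
            show (monomial a r : MvPolynomial (Fin c) R) = C r * monomial a 1 by rw [C_mul_monomial, mul_one]]
          ring
        simp only [Pi.sub_apply, map_sub, mul_sub, Finset.sum_sub_distrib, hs]
        exact Submodule.subset_span ⟨a, i, j, hdeg, rfl⟩
      | zero => simp only [Pi.zero_apply, map_zero, mul_zero, Finset.sum_const_zero]; exact zero_mem _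
      | add y z _ _ hy hz => simpa only [Pi.add_apply, map_add, mul_add, Finset.sum_add_distrib] using add_mem hy hz
      | smul r y _ hy =>
        simpa only [Pi.smul_apply, Finset.smul_sum, ← smul_monomial, mul_smul_comm] using Submodule.smul_mem _ r hy
    exact hall _ (hf _ hv)
  intro n
  induction n with
  | zero =>
    intro P hP hev
    obtain ⟨Q, hQ, rfl⟩ := exists_sum_X_mul 0 hP
    refine key 0 Q hQ ?_
    have hC : ∀ i, Q i = C (eval f (Q i)) := fun i => by
      rw [(totalDegree_zero_iff_isHomogeneous (Fin c) (p := Q i)).2 (hQ i) |> totalDegree_eq_zero_iff_eq_C.1]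
      simp
    rw [Finset.sum_congr rfl fun i _ => by rw [hC i, ← map_mul], ← map_sum, ← map_zero (C (R := R) (σ := Fin c))]
    refine congrArg C ?_
    rw [← hev, map_sum]
    exact Finset.sum_congr rfl fun i _ => by rw [map_mul, eval_X]
  | succ n ih =>
    intro P hP hev
    obtain ⟨Q, hQ, rfl⟩ := exists_sum_X_mul (n + 1) hP
    have hW : ∑ i, C (f i) * Q i ∈ trivRel f n := ih _
      (IsHomogeneous.sum _ _ _ fun i _ => (hQ i).C_mul _) (by
        rw [← hev, map_sum, map_sum]
        exact Finset.sum_congr rfl fun i _ => by rw [map_mul, map_mul, eval_C, eval_X])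
    have hcorr : ∀ W ∈ trivRel f n, ∃ D : Fin c → MvPolynomial (Fin c) R, (∀ i, (D i).IsHomogeneous (n + 1)) ∧
        ∑ i, C (f i) * D i = W ∧ ∑ i, X i * D i = 0 := by
      intro W hW
      induction hW using Submodule.span_induction with
      | mem y hy =>
        obtain ⟨m, i, j, hm, rfl⟩ := hy
        refine ⟨Pi.single j (monomial m 1 * X i) - Pi.single i (monomial m 1 * X j), fun k => ?_, ?_, ?_⟩
        · have hh : ∀ l, (monomial m (1 : R) * X l).IsHomogeneous (n + 1) := fun l =>
            (isHomogeneous_monomial _ hm).mul (isHomogeneous_X R l)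
          refine IsHomogeneous.sub ?_ ?_
          · rw [Pi.single_apply]; split_ifs
            exacts [hh i, isHomogeneous_zero _ _ _]
          · rw [Pi.single_apply]; split_ifs
            exacts [hh j, isHomogeneous_zero _ _ _]
        · simp only [Pi.sub_apply, mul_sub, Finset.sum_sub_distrib, Pi.single_apply, mul_ite, mul_zero,
            Finset.sum_ite_eq', Finset.mem_univ, if_true]
        · simp only [Pi.sub_apply, mul_sub, Finset.sum_sub_distrib, Pi.single_apply, mul_ite, mul_zero,
            Finset.sum_ite_eq', Finset.mem_univ, if_true]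
          ring
      | zero => exact ⟨0, fun i => isHomogeneous_zero _ _ _, by simp, by simp⟩
      | add y z _ _ hy hz =>
        obtain ⟨D, hD, hD1, hD2⟩ := hy
        obtain ⟨E, hE, hE1, hE2⟩ := hz
        exact ⟨D + E, fun i => (hD i).add (hE i), by simp only [Pi.add_apply, mul_add, Finset.sum_add_distrib, hD1, hE1],
          by simp only [Pi.add_apply, mul_add, Finset.sum_add_distrib, hD2, hE2, add_zero]⟩
      | smul r y _ hy =>
        obtain ⟨D, hD, hD1, hD2⟩ := hy
        exact ⟨r • D, fun i => by rw [Pi.smul_apply, smul_eq_C_mul]; exact (hD i).C_mul r,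
          by simp only [Pi.smul_apply, mul_smul_comm, ← Finset.smul_sum, hD1],
          by simp only [Pi.smul_apply, mul_smul_comm, ← Finset.smul_sum, hD2, smul_zero]⟩
    obtain ⟨D, hD, hD1, hD2⟩ := hcorr _ hW
    have h3 := key (n + 1) (fun i => Q i - D i) (fun i => (hQ i).sub (hD i))
      (by simp only [mul_sub, Finset.sum_sub_distrib, hD1, sub_self])
    simpa only [mul_sub, Finset.sum_sub_distrib, hD2, sub_zero] using h3

theorem isQuasiRegular_of_isH1Regular {f : Fin c → R} (hf : CAlgX.IsH1Regular f) : CAlgX.IsQuasiRegular f := by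
  intro n P hP hev d
  refine Groth.Agent.QRegLib.coeff_mem_of_eval_mem f ⊥ (Ideal.span (Set.range f)) Set.univ n (by rw [Set.image_univ])
    (fun P hP _ h0 d => ?_) P hP (Groth.Agent.QRegLib.suppIn_univ P) (by rw [Set.image_univ, bot_sup_eq]; exact hev) d
  rw [Ideal.mem_bot] at h0
  match n with
  | 0 =>
    have h1 : P = C (P.coeff 0) := totalDegree_eq_zero_iff_eq_C.1 ((totalDegree_zero_iff_isHomogeneous (Fin c)).2 hP)
    rw [h1, eval_C] at h0
    rw [h1, h0, map_zero, coeff_zero]
    exact zero_mem _
  | n + 1 => exact coeff_mem_of_mem_trivRel f n (mem_trivRel_of_eval_eq_zero hf n P hP h0) d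

end Groth.Agent.RelDivLib
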