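import Mathlib
import Groth.Agent.RelDivLib.Alg
import Groth.Agent.RegIdealLib.Immersion
import Groth.Agent.QRegLib.Basic
import Groth.Prelude.Def_RegImm

/-! Flatness along a relative quasi-regular immersion. -/

set_option autoImplicit false
set_option backward.isDefEq.respectTransparency false
set_option backward.defeqAttrib.useBackward true
set_option linter.style.haveILetI false

universe u

open CategoryTheory CategoryTheory.Limits AlgebraicGeometry RingTheory.Sequence IsLocalRing
open scoped Pointwise

namespace Groth.Agent.RelDivLib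

/-- Quasi-regular families stay quasi-regular after localization. -/
theorem isQuasiRegular_map {R O : Type u} [CommRing R] [CommRing O] [Algebra R O] (p : Submonoid R) [IsLocalization p O]
    {n : ℕ} {f : Fin n → R} (hf : CAlgX.IsQuasiRegular f) : CAlgX.IsQuasiRegular fun i => algebraMap R O (f i) := by
  classical
  intro d P hP hev q
  have hr : Ideal.span (Set.range fun i => algebraMap R O (f i)) = (Ideal.span (Set.range f)).map (algebraMap R O) := by
    rw [Ideal.map_span, ← Set.range_comp]
    rfl
  rw [hr] at hev ⊢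
  rw [← Ideal.map_pow] at hev
  obtain ⟨b, hb⟩ := IsLocalization.exist_integer_multiples p P.support fun m => P.coeff m
  choose c hc using fun m => show ∃ z : R, algebraMap R O z = algebraMap R O b * P.coeff m from
    (em (m ∈ P.support)).elim (fun h => (hb m h).imp fun z hz => hz.trans (Algebra.smul_def (b : R) (P.coeff m)))
      (fun h => ⟨0, by rw [map_zero, MvPolynomial.notMem_support_iff.1 h, mul_zero]⟩)
  let P0 : MvPolynomial (Fin n) R := ∑ m ∈ P.support, MvPolynomial.monomial m (c m)
  have hP0 : P0.IsHomogeneous d := MvPolynomial.IsHomogeneous.sum _ _ _ fun m hm =>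
    MvPolynomial.isHomogeneous_monomial _ ((hP.degree_eq_sum_deg_support hm).symm)
  have hmap : P0.map (algebraMap R O) = MvPolynomial.C (algebraMap R O b) * P := by
    conv_rhs => rw [P.as_sum, Finset.mul_sum]
    simp only [P0, map_sum, MvPolynomial.map_monomial, MvPolynomial.C_mul_monomial, hc]
  have h1 : algebraMap R O (MvPolynomial.eval f P0) ∈ (Ideal.span (Set.range f) ^ (d + 1)).map (algebraMap R O) := by
    have h0 : algebraMap R O (MvPolynomial.eval f P0) =
        MvPolynomial.eval (fun i => algebraMap R O (f i)) (P0.map (algebraMap R O)) := by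
      rw [MvPolynomial.eval_map, show (fun i => algebraMap R O (f i)) = algebraMap R O ∘ f from rfl, ← MvPolynomial.eval₂_comp]
    rw [h0, hmap, map_mul, MvPolynomial.eval_C]
    exact Ideal.mul_mem_left _ _ hev
  obtain ⟨t, ht, ht'⟩ := (IsLocalization.algebraMap_mem_map_algebraMap_iff p O _ _).1 h1
  have h2 := hf d (MvPolynomial.C t * P0) (hP0.C_mul t) (by rw [map_mul, MvPolynomial.eval_C]; exact ht') q
  rw [MvPolynomial.coeff_C_mul] at h2
  have h3 := Ideal.mem_map_of_mem (algebraMap R O) h2
  have h4 : algebraMap R O (P0.coeff q) = algebraMap R O b * P.coeff q := by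
    rw [← MvPolynomial.coeff_map, hmap, MvPolynomial.coeff_C_mul]
  rw [map_mul, h4, ← mul_assoc] at h3
  exact (Ideal.unit_mul_mem_iff_mem _ ((IsLocalization.map_units O ⟨t, ht⟩).mul (IsLocalization.map_units O b))).1 h3

/-- A Noetherian local algebra is flat if it is so modulo a regular sequence of its maximal ideal. -/
theorem flat_of_flat_quot_list {A : Type u} [CommRing A] : ∀ (n : ℕ) (B : Type u) [CommRing B] [Algebra A B]
    [IsLocalRing B] [IsNoetherianRing B] (rs : List B), rs.length = n → IsWeaklyRegular B rs →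
    (∀ r ∈ rs, r ∈ maximalIdeal B) → Module.Flat A (B ⧸ Ideal.ofList rs) → Module.Flat A B := by
  intro n
  induction n with
  | zero =>
    intro B _ _ _ _ rs hn _ _ h
    rw [List.length_eq_zero_iff] at hn
    subst hn
    haveI := h
    exact Module.Flat.of_linearEquiv
      ((AlgEquiv.ofRingEquiv (f := (Ideal.quotEquivOfEq Ideal.ofList_nil).trans (RingEquiv.quotientBot B))
        (fun _ => rfl) : (B ⧸ Ideal.ofList ([] : List B)) ≃ₐ[A] B).toLinearEquiv.symm)
  | succ n ih =>
    intro B _ _ _ _ rs hn hwr hm h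
    obtain ⟨r, rs, rfl⟩ := List.exists_cons_of_length_eq_add_one hn
    rw [isWeaklyRegular_cons_iff'] at hwr
    let I := Ideal.span ({r} : Set B)
    have hI : I ≤ maximalIdeal B := (Ideal.span_singleton_le_iff_mem _).2 (hm r List.mem_cons_self)
    haveI : Nontrivial (B ⧸ I) := Ideal.Quotient.nontrivial_iff.2 (ne_top_of_le_ne_top (maximalIdeal.isMaximal B).ne_top hI)
    haveI : IsLocalRing (B ⧸ I) := IsLocalRing.of_surjective' (Ideal.Quotient.mk I) Ideal.Quotient.mk_surjective
    let rs' := rs.map (Ideal.Quotient.mk I)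
    haveI : Module.Flat A ((B ⧸ I) ⧸ Ideal.ofList rs') := by
      haveI := h
      let e : (B ⧸ Ideal.ofList (r :: rs)) ≃+* ((B ⧸ I) ⧸ Ideal.ofList rs') :=
        (Ideal.quotEquivOfEq (Ideal.ofList_cons r rs)).trans ((DoubleQuot.quotQuotEquivQuotSup I (Ideal.ofList rs)).symm.trans
          (Ideal.quotEquivOfEq (Ideal.map_ofList _ _)))
      exact Module.Flat.of_linearEquiv (AlgEquiv.ofRingEquiv (f := e) fun a => rfl).toLinearEquiv.symm
    have he : (r • (⊤ : Submodule B B)) = I := by
      rw [← Submodule.ideal_span_singleton_smul, smul_eq_mul, Ideal.mul_top]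
    let E : QuotSMulTop r B ≃ₗ[B ⧸ I] (B ⧸ I) :=
      { Submodule.quotEquivOfEq _ _ he with
        map_smul' := fun c v => by
          obtain ⟨c, rfl⟩ := Ideal.Quotient.mk_surjective c
          obtain ⟨v, rfl⟩ := Submodule.Quotient.mk_surjective _ v
          rfl }
    haveI : Module.Flat A (B ⧸ I) := ih (B ⧸ I) rs' (by rw [List.length_map]; simpa using hn)
      ((E.isWeaklyRegular_congr rs').1 hwr.2) (fun a ha => by
        obtain ⟨b, hb, rfl⟩ := List.mem_map.1 ha
        refine (mem_maximalIdeal _).2 fun hu => (maximalIdeal.isMaximal B).ne_top ?_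
        obtain ⟨c, hc⟩ := hu.exists_right_inv
        obtain ⟨c, rfl⟩ := Ideal.Quotient.mk_surjective c
        rw [← map_mul, ← map_one (Ideal.Quotient.mk I), Ideal.Quotient.eq] at hc
        exact (Ideal.eq_top_iff_one _).2 (by simpa using sub_mem (Ideal.mul_mem_right c _ (hm b (List.mem_cons_of_mem _ hb))) (hI hc)))
      inferInstance
    exact flat_of_flat_quot (A := A) (mem_nonZeroDivisors_iff_right.2 fun z hz => hwr.1
      (by simp only [smul_eq_mul, mul_zero]; rw [mul_comm, hz])) (hm r List.mem_cons_self)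

variable {Z X S : Scheme.{u}}

theorem flat_stalkMap_of_relQuasiRegular (f : X ⟶ S) (i : Z ⟶ X)
    (hi : RegImm.IsRelRegularImmersion RegImm.Kind.quasi f i) (z : Z) [IsNoetherianRing (X.presheaf.stalk (i z))] :
    (f.stalkMap (i z)).hom.Flat := by
  obtain ⟨⟨himm, hreg⟩, hfl⟩ := hi
  obtain ⟨⟨U, hU⟩, hzU, hc, rs, hrs, hK⟩ := hreg z
  haveI hpre : IsImmersion i := himm
  letI : Algebra Γ(X, U) (X.presheaf.stalk (i z)) := TopCat.Presheaf.algebra_section_stalk X.presheaf ⟨i z, hzU⟩
  haveI := hU.isLocalization_stalk ⟨i z, hzU⟩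
  let g : Fin rs.length → X.presheaf.stalk (i z) := fun j => algebraMap Γ(X, U) _ (rs.get j)
  have hg : CAlgX.IsQuasiRegular g := isQuasiRegular_map (hU.primeIdealOf ⟨i z, hzU⟩).asIdeal.primeCompl hrs
  have hspan : RingHom.ker (i.stalkMap z).hom = Ideal.span (Set.range g) := by
    rw [RegIdealLib.ker_stalkMap i hU hc z hzU]
    show (RingHom.ker (i.app U).hom).map _ = _
    rw [hK, show Ideal.ofList rs = Ideal.span (Set.range rs.get) from by rw [← RegIdealLib.ofList_ofFn, List.ofFn_get],
      Ideal.map_span, ← Set.range_comp]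
    rfl
  have hle : Ideal.span (Set.range g) ≤ maximalIdeal (X.presheaf.stalk (i z)) := by
    rw [← hspan]
    exact le_maximalIdeal (RingHom.ker_ne_top _)
  have hwr := Groth.Agent.QRegLib.isWeaklyRegular_of_isQuasiRegular g
    (by rw [IsLocalRing.jacobson_eq_maximalIdeal ⊥ bot_ne_top]; exact hle) hg
  letI := (f.stalkMap (i z)).hom.toAlgebra
  letI : Algebra (S.presheaf.stalk (f (i z))) (Z.presheaf.stalk z) := ((i ≫ f).stalkMap z).hom.toAlgebra
  haveI : Module.Flat (S.presheaf.stalk (f (i z))) (Z.presheaf.stalk z) := Flat.stalkMap (i ≫ f) z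
  refine flat_of_flat_quot_list (A := S.presheaf.stalk (f (i z))) _ (X.presheaf.stalk (i z)) (List.ofFn g) rfl hwr
    (fun r hr => hle (by rw [← RegIdealLib.ofList_ofFn]; exact Ideal.subset_span hr)) ?_
  let e : (X.presheaf.stalk (i z) ⧸ Ideal.ofList (List.ofFn g)) ≃+* Z.presheaf.stalk z :=
    (Ideal.quotEquivOfEq ((RegIdealLib.ofList_ofFn g).trans hspan.symm)).trans
      (RingHom.quotientKerEquivOfSurjective (f := (i.stalkMap z).hom) (haveI := hpre;
        i.stalkMap_surjective z))
  exact Module.Flat.of_linearEquiv (AlgEquiv.ofRingEquiv (f := e) fun r => by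
    show (i.stalkMap z).hom ((f.stalkMap (i z)).hom r) = ((i ≫ f).stalkMap z).hom r
    rw [Scheme.Hom.stalkMap_comp]
    rfl).toLinearEquiv

end Groth.Agent.RelDivLib
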