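import Mathlib
import Groth.Agent.RelDivLib.Alg
import Groth.Agent.QRegLib.Basic
import Groth.Prelude.Def_CAlgX

/-! Base change of quasi-regular and H₁-regular families with flat quotient. -/

set_option autoImplicit false
set_option linter.style.haveILetI false

universe u

open TensorProduct MvPolynomial

namespace Groth.Agent.RelDivLib

variable {A B A' P : Type u} [CommRing A] [CommRing B] [CommRing A'] [CommRing P]
  [Algebra A B] [Algebra A A'] [Algebra A P] [Algebra B P] [Algebra A' P] [IsScalarTower A B P]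
  [IsScalarTower A A' P] [h : Algebra.IsPushout A A' B P]

include A' h in
/-- Relations of a family with flat quotient are computed after base change from the relations before. -/
theorem relation_baseChange {ι : Type} [Fintype ι] [DecidableEq ι] (c : ι → B) [Module.Flat A (B ⧸ Ideal.span (Set.range c))]
    (K : Set (ι → B)) (hK : ∀ v : ι → B, ∑ i, v i * c i = 0 → v ∈ Submodule.span B K)
    (r : ι → P) (hr : ∑ i, r i * algebraMap B P (c i) = 0) :
    r ∈ Submodule.span P ((fun v i => algebraMap B P (v i)) '' K) := by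
  let N : Submodule A B := (Ideal.span (Set.range c)).restrictScalars A
  let ψ : (ι → B) →ₗ[A] B := ((Fintype.linearCombination B c) : (ι → B) →ₗ[B] B).restrictScalars A
  have hψ : ∀ v, ψ v = ∑ i, v i * c i := fun v => by
    show Fintype.linearCombination B c v = _
    simp [Fintype.linearCombination_apply]
  let ψ₀ : (ι → B) →ₗ[A] N := ψ.codRestrict N fun v => by
    show ψ v ∈ Ideal.span (Set.range c)
    rw [hψ]
    exact sum_mem fun i _ => Ideal.mul_mem_left _ _ (Ideal.subset_span ⟨i, rfl⟩)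
  have hψ₀ : Function.Surjective ψ₀ := fun v => by
    obtain ⟨w, hw⟩ := Ideal.mem_span_range_iff_exists_fun.1 v.2
    exact ⟨w, Subtype.ext ((hψ w).trans hw)⟩
  let q : B →ₗ[A] B ⧸ Ideal.span (Set.range c) := (Ideal.Quotient.mkₐ A (Ideal.span (Set.range c))).toLinearMap
  have hex : Function.Exact N.subtype q := fun w =>
    ⟨fun hw => ⟨⟨w, Ideal.Quotient.eq_zero_iff_mem.1 hw⟩, rfl⟩, by rintro ⟨v, rfl⟩; exact Ideal.Quotient.eq_zero_iff_mem.2 v.2⟩
  have hinj : Function.Injective (N.subtype.lTensor A') :=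
    LinearMap.lTensor_injective_of_exact_of_flat q Ideal.Quotient.mk_surjective N.subtype Subtype.val_injective hex A'
  let E : A' ⊗[A] B ≃ₗ[A'] P := h.out.equiv
  have hE : ∀ (a : A') (b : B), E (a ⊗ₜ b) = algebraMap A' P a * algebraMap B P b := fun a b => by
    show h.out.equiv (a ⊗ₜ b) = _
    rw [IsBaseChange.equiv_tmul, Algebra.smul_def]
    rfl
  let L : A' ⊗[A] (ι → B) ≃ₗ[A'] (ι → P) :=
    (TensorProduct.piRight A A' A' (fun _ : ι => B)).trans (LinearEquiv.piCongrRight fun _ => E)
  have hL : ∀ (a : A') (v : ι → B) (i : ι), L (a ⊗ₜ v) i = algebraMap A' P a * algebraMap B P (v i) := fun a v i => by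
    show E ((TensorProduct.piRight A A' A' (fun _ : ι => B)) (a ⊗ₜ v) i) = _
    rw [TensorProduct.piRight_apply, TensorProduct.piRightHom_tmul, hE]
  have hnat : ∀ w : A' ⊗[A] (ι → B), E (ψ.lTensor A' w) = ∑ i, L w i * algebraMap B P (c i) := fun w => by
    induction w with
    | zero => simp
    | tmul a v =>
      rw [LinearMap.lTensor_tmul, hE, hψ, map_sum, Finset.mul_sum]
      exact Finset.sum_congr rfl fun i _ => by rw [hL, map_mul, mul_assoc]
    | add u v hu hv => simp only [map_add, hu, hv, Pi.add_apply, add_mul, Finset.sum_add_distrib]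
  obtain ⟨w, rfl⟩ := L.surjective r
  rw [← hnat] at hr
  have h0 : ψ₀.lTensor A' w = 0 := hinj (by
    rw [map_zero, ← LinearMap.comp_apply, ← LinearMap.lTensor_comp, LinearMap.subtype_comp_codRestrict]
    exact E.injective (by rw [hr, map_zero]))
  obtain ⟨u, rfl⟩ := (lTensor_exact A' (LinearMap.exact_subtype_ker_map ψ₀) hψ₀ w).1 h0
  clear hr h0
  induction u with
  | zero => simp only [map_zero]; exact zero_mem _
  | tmul a v =>
    rw [LinearMap.lTensor_tmul]
    have hv0 : ∑ i, v.1 i * c i = 0 := by rw [← hψ]; exact congrArg Subtype.val v.2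
    have key : ∀ x ∈ Submodule.span B K, (fun i => algebraMap B P (x i)) ∈ Submodule.span P ((fun v i => algebraMap B P (v i)) '' K) := by
      intro x hx
      induction hx using Submodule.span_induction with
      | mem y hy => exact Submodule.subset_span ⟨y, hy, rfl⟩
      | zero => simp only [Pi.zero_apply, map_zero]; exact zero_mem _
      | add y z _ _ hy hz => simpa only [Pi.add_apply, map_add] using! add_mem hy hz
      | smul b y _ hy =>
        simpa only [Pi.smul_apply, smul_eq_mul, map_mul] using! Submodule.smul_mem _ (algebraMap B P b) hy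
    show L (a ⊗ₜ[A] v.1) ∈ _
    rw [show L (a ⊗ₜ[A] v.1) = algebraMap A' P a • fun i => algebraMap B P (v.1 i) from funext fun i => hL a v.1 i]
    exact Submodule.smul_mem _ _ (key _ (hK _ hv0))
  | add x y hx hy => simp only [map_add]; exact add_mem hx hy

include A' h in
theorem isH1Regular_baseChange {n : ℕ} {f : Fin n → B} (hf : CAlgX.IsH1Regular f)
    [Module.Flat A (B ⧸ Ideal.span (Set.range f))] : CAlgX.IsH1Regular fun i => algebraMap B P (f i) := by
  intro a ha
  refine Submodule.span_mono ?_ (relation_baseChange (A := A) (A' := A') f _ (fun v hv => hf v hv) a ha)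
  rintro _ ⟨_, ⟨i, j, rfl⟩, rfl⟩
  refine ⟨i, j, funext fun k => ?_⟩
  simp only [Pi.sub_apply, map_sub, Pi.single_apply, apply_ite (algebraMap B P), map_zero]

/-- The evaluation of polynomials of degree `n` as a linear combination of monomials. -/
theorem eval_eq_sum {R : Type u} [CommRing R] {n : ℕ} (f : Fin n → R) (d : ℕ) (Q : MvPolynomial (Fin n) R) (hQ : Q.IsHomogeneous d) :
    eval f Q = ∑ m : (Finset.univ : Finset (Fin n)).finsuppAntidiag d, Q.coeff m.1 * ∏ i, f i ^ m.1 i := by
  classical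
  rw [eval_eq', Finset.sum_coe_sort _ (fun m => Q.coeff m * ∏ i, f i ^ m i)]
  refine Finset.sum_subset (fun m hm => ?_) fun m _ hm => by rw [notMem_support_iff.1 hm, zero_mul]
  rw [Finset.mem_finsuppAntidiag]
  refine ⟨?_, Finset.subset_univ _⟩
  rw [hQ.degree_eq_sum_deg_support hm]
  exact (Finset.sum_subset (Finset.subset_univ _) fun i _ hi => Finsupp.notMem_support_iff.1 hi).symm

/-- The polynomial with given coefficients in degree `d`. -/
theorem exists_poly {R : Type u} [CommRing R] {n : ℕ} (f : Fin n → R) (d : ℕ)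
    (v : (Finset.univ : Finset (Fin n)).finsuppAntidiag d → R) :
    ∃ Q : MvPolynomial (Fin n) R, Q.IsHomogeneous d ∧ (∀ m, Q.coeff m.1 = v m) ∧ eval f Q = ∑ m, v m * ∏ i, f i ^ m.1 i := by
  classical
  let Q : MvPolynomial (Fin n) R := ∑ m, monomial m.1 (v m)
  have hQ : Q.IsHomogeneous d := IsHomogeneous.sum _ _ _ fun m _ => isHomogeneous_monomial _ (by
    rw [Finsupp.degree_eq_sum]
    exact ((Finset.mem_finsuppAntidiag).1 m.2).1)
  have hc : ∀ m, Q.coeff m.1 = v m := fun m => by
    simp only [Q, coeff_sum, coeff_monomial]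
    rw [Finset.sum_eq_single m (fun m' _ h' => if_neg fun e => h' (Subtype.ext e)) (fun h' => absurd (Finset.mem_univ m) h'), if_pos rfl]
  exact ⟨Q, hQ, hc, (eval_eq_sum f d Q hQ).trans (Finset.sum_congr rfl fun m _ => by rw [hc])⟩

theorem span_pow_eq {R : Type u} [CommRing R] {n : ℕ} (f : Fin n → R) (d : ℕ) :
    Ideal.span (Set.range f) ^ d =
      Ideal.span (Set.range fun m : (Finset.univ : Finset (Fin n)).finsuppAntidiag d => ∏ i, f i ^ m.1 i) := by
  refine le_antisymm (fun y hy => ?_) (Ideal.span_le.2 ?_)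
  · obtain ⟨Q, hQ, -, rfl⟩ := QRegLib.exists_poly_of_mem_pow f Set.univ d y (by rwa [Set.image_univ])
    rw [eval_eq_sum f d Q hQ]
    exact sum_mem fun m _ => Ideal.mul_mem_left _ _ (Ideal.subset_span ⟨m, rfl⟩)
  · rintro _ ⟨m, rfl⟩
    show ∏ i, f i ^ m.1 i ∈ Ideal.span (Set.range f) ^ d
    have h1 : ∏ i, f i ^ m.1 i ∈ ∏ i, Ideal.span (Set.range f) ^ m.1 i :=
      Ideal.prod_mem_prod fun i _ => Ideal.pow_mem_pow (Ideal.subset_span (Set.mem_range_self i)) _
    rwa [Finset.prod_pow_eq_pow_sum, ((Finset.mem_finsuppAntidiag).1 m.2).1] at h1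

omit [CommRing A'] [Algebra A A'] in
/-- The quotients by powers of a quasi-regular ideal with flat quotient are flat. -/
theorem flat_quot_pow {n : ℕ} {f : Fin n → B} (hf : CAlgX.IsQuasiRegular f)
    [Module.Flat A (B ⧸ Ideal.span (Set.range f))] (d : ℕ) : Module.Flat A (B ⧸ Ideal.span (Set.range f) ^ d) := by
  classical
  set J : Ideal B := Ideal.span (Set.range f) with hJ
  induction d with
  | zero =>
    haveI : Subsingleton (B ⧸ J ^ 0) := by rw [pow_zero, Ideal.one_eq_top]; exact Ideal.Quotient.subsingleton_iff.2 rfl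
    infer_instance
  | succ d ih =>
    let ι := (Finset.univ : Finset (Fin n)).finsuppAntidiag d
    let θ : (ι → B) →ₗ[B] B ⧸ J ^ (d + 1) :=
      (J ^ (d + 1)).mkQ ∘ₗ Fintype.linearCombination B (fun m : ι => ∏ i, f i ^ m.1 i)
    have hθ : ∀ v : ι → B, θ v = Ideal.Quotient.mk (J ^ (d + 1)) (∑ m, v m * ∏ i, f i ^ m.1 i) := fun v => by
      show Ideal.Quotient.mk (J ^ (d + 1)) (Fintype.linearCombination B _ v) = _
      simp [Fintype.linearCombination_apply]
    let π : (ι → B) →ₗ[B] (ι → B ⧸ J) := LinearMap.pi fun m => J.mkQ ∘ₗ LinearMap.proj m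
    have hπs : Function.Surjective π := fun v => ⟨fun m => (Ideal.Quotient.mk_surjective (v m)).choose,
      funext fun m => (Ideal.Quotient.mk_surjective (v m)).choose_spec⟩
    have hker : LinearMap.ker θ = LinearMap.ker π := by
      ext v
      rw [LinearMap.mem_ker, LinearMap.mem_ker, hθ, Ideal.Quotient.eq_zero_iff_mem, funext_iff]
      refine ⟨fun hv m => ?_, fun hv => ?_⟩
      · obtain ⟨Q, hQ, hc, he⟩ := exists_poly f d v
        exact Ideal.Quotient.eq_zero_iff_mem.2 (by
          show v m ∈ J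
          rw [← hc m]
          exact hf d Q hQ (by rw [he]; exact hv) m.1)
      · refine sum_mem fun m _ => ?_
        rw [pow_succ']
        refine Ideal.mul_mem_mul (Ideal.Quotient.eq_zero_iff_mem.1 (hv m)) ?_
        rw [hJ, span_pow_eq]
        exact Ideal.subset_span ⟨m, rfl⟩
    let e : ((ι → B) ⧸ LinearMap.ker θ) ≃ₗ[B] (ι →₀ B ⧸ J) :=
      (Submodule.quotEquivOfEq _ _ hker).trans ((π.quotKerEquivOfSurjective hπs).trans (Finsupp.linearEquivFunOnFinite B (B ⧸ J) ι).symm)
    haveI : Module.Flat A ((ι → B) ⧸ LinearMap.ker θ) :=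
      Module.Flat.of_linearEquiv ((e.restrictScalars A).trans (finsuppLequivDFinsupp A))
    haveI := ih
    let φ : ((ι → B) ⧸ LinearMap.ker θ) →ₗ[B] B ⧸ J ^ (d + 1) := (LinearMap.ker θ).liftQ θ le_rfl
    have hle : J ^ (d + 1) ≤ J ^ d := Ideal.pow_le_pow_right (Nat.le_add_right d 1)
    let ρ : (B ⧸ J ^ (d + 1)) →ₗ[B] B ⧸ J ^ d := Submodule.factor hle
    refine flat_of_flat_ends (φ.restrictScalars A) (ρ.restrictScalars A) ?_ ?_ ?_
    · show Function.Injective φ
      rw [← LinearMap.ker_eq_bot]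
      exact Submodule.ker_liftQ_eq_bot (LinearMap.ker θ) θ le_rfl le_rfl
    · intro y
      obtain ⟨y, rfl⟩ := Submodule.Quotient.mk_surjective _ y
      exact ⟨Submodule.Quotient.mk y, rfl⟩
    · intro y
      obtain ⟨y, rfl⟩ := Ideal.Quotient.mk_surjective y
      show ρ (Ideal.Quotient.mk _ y) = 0 ↔ Ideal.Quotient.mk _ y ∈ Set.range φ
      rw [show ρ (Ideal.Quotient.mk (J ^ (d + 1)) y) = Ideal.Quotient.mk (J ^ d) y from rfl, Ideal.Quotient.eq_zero_iff_mem]
      refine ⟨fun hy => ?_, ?_⟩
      · rw [hJ, span_pow_eq] at hy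
        obtain ⟨v, hv⟩ := Ideal.mem_span_range_iff_exists_fun.1 hy
        exact ⟨Submodule.Quotient.mk v, (hθ v).trans (by rw [hv])⟩
      · rintro ⟨z, hz⟩
        obtain ⟨v, rfl⟩ := Submodule.Quotient.mk_surjective _ z
        have h1 : Ideal.Quotient.mk (J ^ (d + 1)) (∑ m, v m * ∏ i, f i ^ m.1 i) = Ideal.Quotient.mk _ y := (hθ v).symm.trans hz
        rw [Ideal.Quotient.eq] at h1
        have h2 : ∑ m, v m * ∏ i, f i ^ m.1 i ∈ J ^ d := sum_mem fun m _ => Ideal.mul_mem_left _ _ (by
          rw [hJ, span_pow_eq]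
          exact Ideal.subset_span ⟨m, rfl⟩)
        simpa using sub_mem h2 (hle h1)

include A' h in
theorem isQuasiRegular_baseChange {n : ℕ} {f : Fin n → B} (hf : CAlgX.IsQuasiRegular f)
    [Module.Flat A (B ⧸ Ideal.span (Set.range f))] : CAlgX.IsQuasiRegular fun i => algebraMap B P (f i) := by
  classical
  intro d Q hQ hev q
  set J' := Ideal.span (Set.range fun i => algebraMap B P (f i))
  by_cases hq : q ∈ (Finset.univ : Finset (Fin n)).finsuppAntidiag d
  swap
  · rw [hQ.coeff_eq_zero (fun hd => hq (by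
      rw [Finset.mem_finsuppAntidiag]
      exact ⟨by rw [← hd, Finsupp.degree_eq_sum], Finset.subset_univ _⟩))]
    exact zero_mem _
  rw [pow_succ', show J' ^ d = Ideal.span ((fun i => algebraMap B P (f i)) '' Set.univ) ^ d by rw [Set.image_univ]] at hev
  obtain ⟨Q', hQ', -, hQ'c, hQ'e⟩ := QRegLib.exists_poly_of_mem_mul_pow _ J' Set.univ d _ hev
  let c : (Finset.univ : Finset (Fin n)).finsuppAntidiag d → B := fun m => ∏ i, f i ^ m.1 i
  haveI : Module.Flat A (B ⧸ Ideal.span (Set.range c)) := by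
    haveI := flat_quot_pow (A := A) hf d
    exact Module.Flat.of_linearEquiv ((Ideal.quotientEquivAlgOfEq A (span_pow_eq f d)).toLinearEquiv.symm)
  let R := Q - Q'
  have hR0 : eval (fun i => algebraMap B P (f i)) R = 0 := by rw [map_sub, hQ'e, sub_self]
  rw [eval_eq_sum _ d R (hQ.sub hQ')] at hR0
  have hc : ∀ m, algebraMap B P (c m) = ∏ i, algebraMap B P (f i) ^ m.1 i := fun m => by
    simp only [c, map_prod, map_pow]
  have h1 := relation_baseChange (A := A) (A' := A') c {v | ∀ m, v m ∈ Ideal.span (Set.range f)}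
    (fun v hv => by
      obtain ⟨V, hV, hVc, hVe⟩ := exists_poly f d v
      exact Submodule.subset_span fun m => hVc m ▸ hf d V hV (by rw [hVe, hv]; exact zero_mem _) m.1)
    (fun m => R.coeff m.1) (by simpa only [hc] using hR0)
  have h2 : ∀ r ∈ Submodule.span P ((fun v m => algebraMap B P (v m)) ''
      {v : (Finset.univ : Finset (Fin n)).finsuppAntidiag d → B | ∀ m, v m ∈ Ideal.span (Set.range f)}), ∀ m, r m ∈ J' := by
    intro r hr
    induction hr using Submodule.span_induction with
    | mem y hy =>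
      obtain ⟨v, hv, rfl⟩ := hy
      intro m
      have := Ideal.mem_map_of_mem (algebraMap B P) (hv m)
      rw [Ideal.map_span, ← Set.range_comp] at this
      exact this
    | zero => exact fun m => zero_mem _
    | add y z _ _ hy hz => exact fun m => add_mem (hy m) (hz m)
    | smul b y _ hy => exact fun m => Ideal.mul_mem_left _ _ (hy m)
  have h3 := h2 _ h1 ⟨q, hq⟩
  change R.coeff q ∈ J' at h3
  simpa [R, coeff_sub] using add_mem h3 (hQ'c q)

end Groth.Agent.RelDivLib
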