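import Mathlib
import Groth.Agent.RelDivLib.RegBC
import Groth.Agent.RelDivLib.QuasiFlat
import Groth.Agent.RegIdealLib.Immersion
import Groth.Agent.PullbackMod.Flat

/-! Base change of relative H₁-regular and quasi-regular immersions. -/

set_option autoImplicit false
set_option backward.isDefEq.respectTransparency false
set_option backward.defeqAttrib.useBackward true
set_option linter.style.haveILetI false

universe u

open CategoryTheory CategoryTheory.Limits AlgebraicGeometry TensorProduct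

namespace Groth.Agent.RelDivLib

theorem ker_pushout {R R' S P : Type u} [CommRing R] [CommRing R'] [CommRing S] [CommRing P] [Algebra R R'] [Algebra R S]
    [Algebra R P] [Algebra R' P] [Algebra S P] [IsScalarTower R R' P] [IsScalarTower R S P] [h : Algebra.IsPushout R R' S P]
    (hs : Function.Surjective (algebraMap R S)) :
    RingHom.ker (algebraMap R' P) = (RingHom.ker (algebraMap R S)).map (algebraMap R R') := by
  refine le_antisymm (fun r hr => ?_) (Ideal.map_le_iff_le_comap.2 fun x hx => ?_)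
  · let I := RingHom.ker (algebraMap R S)
    let E : R' ⊗[R] S ≃ₗ[R'] P := h.out.equiv
    have h0 : r ⊗ₜ[R] (1 : S) = 0 := E.injective (by
      show h.out.equiv (r ⊗ₜ[R] (1 : S)) = E 0
      rw [IsBaseChange.equiv_tmul, map_zero, Algebra.smul_def, show algebraMap R' P r = 0 from hr, zero_mul])
    let e : S ≃ₐ[R] R ⧸ I := (Ideal.quotientKerAlgEquivOfSurjective (f := Algebra.ofId R S) hs).symm
    have h1 : Algebra.TensorProduct.map (AlgHom.id R R') e.toAlgHom (r ⊗ₜ[R] (1 : S)) = 0 := by rw [h0, map_zero]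
    rw [Algebra.TensorProduct.map_tmul, AlgHom.id_apply, map_one] at h1
    have h2 := congrArg (Algebra.TensorProduct.quotIdealMapEquivTensorQuot R' I).symm h1
    rw [map_zero] at h2
    refine Ideal.Quotient.eq_zero_iff_mem.1 (Eq.trans ?_ h2)
    rw [AlgEquiv.eq_symm_apply]
    rfl
  · rw [Ideal.mem_comap, RingHom.mem_ker, ← IsScalarTower.algebraMap_apply, IsScalarTower.algebraMap_apply R S P,
      show algebraMap R S x = 0 from hx, map_zero]

variable {Z X : Scheme.{u}}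

/-- A closed immersion over an affine open, pulled back to an affine open. -/
theorem closed_and_ker_pullback {Z' X' : Scheme.{u}} {i : Z ⟶ X} {i' : Z' ⟶ X'} {p : X' ⟶ X} {q : Z' ⟶ Z}
    (hc : IsPullback q i' i p) {U : X.Opens} (hU : IsAffineOpen U) (hcl : IsClosedImmersion (i ∣_ U))
    {V : X'.Opens} (hV : IsAffineOpen V) (e : V ≤ p ⁻¹ᵁ U) :
    IsClosedImmersion (i' ∣_ V) ∧
      RingHom.ker (i'.app V).hom = (RingHom.ker (i.app U).hom).map (p.appLE U V e).hom := by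
  obtain ⟨haff, hs⟩ := RegIdealLib.affine_and_surjective i hU hcl
  have hle : i' ⁻¹ᵁ V ≤ q ⁻¹ᵁ (i ⁻¹ᵁ U) := fun z hz => by
    show i (q z) ∈ U
    rw [← Scheme.Hom.comp_apply, hc.w, Scheme.Hom.comp_apply]
    exact e hz
  have hP : q ⁻¹ᵁ (i ⁻¹ᵁ U) ⊓ i' ⁻¹ᵁ V = i' ⁻¹ᵁ V := inf_eq_right.2 hle
  refine ⟨?_, ?_⟩
  · have h1 := Scheme.Hom.isPullback_resLE hc e (le_refl (i ⁻¹ᵁ U)) hP.symm
    have h2 : IsClosedImmersion (i.resLE U (i ⁻¹ᵁ U) le_rfl) := by rw [Scheme.Hom.resLE_eq_morphismRestrict]; exact hcl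
    have h3 := MorphismProperty.of_isPullback h1 h2
    rwa [Scheme.Hom.resLE_eq_morphismRestrict] at h3
  · obtain ⟨-, hpo⟩ := PullbackMod.isPushout_appLE hc hU haff hV le_rfl e
    let P : Z'.Opens := q ⁻¹ᵁ (i ⁻¹ᵁ U) ⊓ i' ⁻¹ᵁ V
    letI : Algebra Γ(X, U) Γ(Z, i ⁻¹ᵁ U) := (i.appLE U (i ⁻¹ᵁ U) le_rfl).hom.toAlgebra
    letI : Algebra Γ(X, U) Γ(X', V) := (p.appLE U V e).hom.toAlgebra
    letI : Algebra Γ(Z, i ⁻¹ᵁ U) Γ(Z', P) := (q.appLE (i ⁻¹ᵁ U) P inf_le_left).hom.toAlgebra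
    letI : Algebra Γ(X', V) Γ(Z', P) := (i'.appLE V P inf_le_right).hom.toAlgebra
    letI : Algebra Γ(X, U) Γ(Z', P) :=
      ((q.appLE (i ⁻¹ᵁ U) P inf_le_left).hom.comp (i.appLE U (i ⁻¹ᵁ U) le_rfl).hom).toAlgebra
    haveI : IsScalarTower Γ(X, U) Γ(Z, i ⁻¹ᵁ U) Γ(Z', P) := .of_algebraMap_eq fun _ => rfl
    haveI : IsScalarTower Γ(X, U) Γ(X', V) Γ(Z', P) := .of_algebraMap_eq' (by
      show ((i.appLE U (i ⁻¹ᵁ U) le_rfl) ≫ q.appLE (i ⁻¹ᵁ U) P inf_le_left).hom =
        ((p.appLE U V e) ≫ i'.appLE V P inf_le_right).hom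
      simp only [Scheme.Hom.appLE_comp_appLE, hc.w])
    haveI : Algebra.IsPushout Γ(X, U) Γ(X', V) Γ(Z, i ⁻¹ᵁ U) Γ(Z', P) := hpo
    have h1 := ker_pushout (R := Γ(X, U)) (R' := Γ(X', V)) (S := Γ(Z, i ⁻¹ᵁ U)) (P := Γ(Z', P))
      (by show Function.Surjective (i.appLE U (i ⁻¹ᵁ U) le_rfl).hom; rw [← Scheme.Hom.app_eq_appLE]; exact hs)
    change RingHom.ker (i'.appLE V P inf_le_right).hom = (RingHom.ker (i.appLE U (i ⁻¹ᵁ U) le_rfl).hom).map (p.appLE U V e).hom at h1
    rw [← Scheme.Hom.app_eq_appLE] at h1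
    rw [← h1]
    have key : ∀ (Q : Z'.Opens) (hQ : Q ≤ i' ⁻¹ᵁ V), Q = i' ⁻¹ᵁ V → RingHom.ker (i'.appLE V Q hQ).hom = RingHom.ker (i'.app V).hom := by
      rintro _ hQ rfl
      rw [Scheme.Hom.app_eq_appLE]
    exact (key P inf_le_right hP).symm

theorem isH1Regular_map {R O : Type u} [CommRing R] [CommRing O] [Algebra R O] (p : Submonoid R) [IsLocalization p O]
    {n : ℕ} {f : Fin n → R} (hf : CAlgX.IsH1Regular f) : CAlgX.IsH1Regular fun i => algebraMap R O (f i) := by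
  classical
  intro a ha
  obtain ⟨b, hb⟩ := IsLocalization.exist_integer_multiples p Finset.univ a
  choose c hc using fun m => show ∃ z : R, algebraMap R O z = algebraMap R O b * a m from
    (hb m (Finset.mem_univ m)).imp fun z hz => hz.trans (Algebra.smul_def (b : R) (a m))
  have h1 : algebraMap R O (∑ i, c i * f i) = 0 := by
    simp only [map_sum, map_mul, hc, mul_assoc, ← Finset.mul_sum, ha, mul_zero]
  obtain ⟨t, ht⟩ := (IsLocalization.map_eq_zero_iff p O _).1 h1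
  have h2 := hf (fun i => t.1 * c i) (by simp only [mul_assoc, ← Finset.mul_sum]; exact ht)
  have h3 : (fun i => algebraMap R O (t.1 * c i)) ∈ Submodule.span O
      {v : Fin n → O | ∃ i j : Fin n, v = Pi.single i (algebraMap R O (f j)) - Pi.single j (algebraMap R O (f i))} := by
    have key : ∀ x ∈ Submodule.span R {v : Fin n → R | ∃ i j : Fin n, v = Pi.single i (f j) - Pi.single j (f i)},
        (fun i => algebraMap R O (x i)) ∈ Submodule.span O
          {v : Fin n → O | ∃ i j : Fin n, v = Pi.single i (algebraMap R O (f j)) - Pi.single j (algebraMap R O (f i))} := by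
      intro x hx
      induction hx using Submodule.span_induction with
      | mem y hy =>
        obtain ⟨i, j, rfl⟩ := hy
        refine Submodule.subset_span ⟨i, j, funext fun k => ?_⟩
        simp only [Pi.sub_apply, map_sub, Pi.single_apply, apply_ite (algebraMap R O), map_zero]
      | zero => simp only [Pi.zero_apply, map_zero]; exact zero_mem _
      | add y z _ _ hy hz => simpa only [Pi.add_apply, map_add] using! add_mem hy hz
      | smul s y _ hy => simpa only [Pi.smul_apply, smul_eq_mul, map_mul] using! Submodule.smul_mem _ (algebraMap R O s) hy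
    exact key _ h2
  obtain ⟨u, hu⟩ := ((IsLocalization.map_units O t).mul (IsLocalization.map_units O b)).exists_left_inv
  have h4 := Submodule.smul_mem _ u h3
  convert h4 using 1
  funext i
  show a i = u * algebraMap R O (t.1 * c i)
  rw [map_mul, hc, ← mul_assoc (algebraMap R O t.1), ← mul_assoc u, hu, one_mul]

theorem seq_ofFn {R : Type u} [CommRing R] (k : RegImm.Kind) (hk : k = RegImm.Kind.h1 ∨ k = RegImm.Kind.quasi) {n : ℕ}
    (g : Fin n → R) :
    k.Seq R (List.ofFn g) ↔ (if k = RegImm.Kind.h1 then CAlgX.IsH1Regular g else CAlgX.IsQuasiRegular g) := by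
  have h1 : ∀ {m : ℕ} (_ : m = n) (P : ∀ {c : ℕ}, (Fin c → R) → Prop) (g' : Fin m → R) (_ : ∀ j, g' j = g (Fin.cast ‹m = n› j)),
      P g' ↔ P g := by
    rintro _ rfl P g' hg
    rw [show g' = g from funext hg]
  have hl : (List.ofFn g).length = n := List.length_ofFn
  rcases hk with rfl | rfl
  · rw [if_pos rfl]
    exact h1 hl (fun {c} => @CAlgX.IsH1Regular R _ c) _ (fun j => List.get_ofFn g j)
  · rw [if_neg (by decide)]
    exact h1 hl (fun {c} => @CAlgX.IsQuasiRegular R _ c) _ (fun j => List.get_ofFn g j)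

theorem seq_map {R O : Type u} [CommRing R] [CommRing O] (φ : R →+* O) (k : RegImm.Kind)
    (hk : k = RegImm.Kind.h1 ∨ k = RegImm.Kind.quasi) {rs : List R} (h : k.Seq R rs)
    (h1 : ∀ {n : ℕ} {f : Fin n → R}, Ideal.span (Set.range f) = Ideal.ofList rs → CAlgX.IsH1Regular f → CAlgX.IsH1Regular fun i => φ (f i))
    (hq : ∀ {n : ℕ} {f : Fin n → R}, Ideal.span (Set.range f) = Ideal.ofList rs → CAlgX.IsQuasiRegular f → CAlgX.IsQuasiRegular fun i => φ (f i)) :
    k.Seq O (rs.map φ) := by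
  have hs : Ideal.span (Set.range rs.get) = Ideal.ofList rs := by rw [← RegIdealLib.ofList_ofFn, List.ofFn_get]
  rw [← List.ofFn_get rs, seq_ofFn k hk] at h
  rw [← List.ofFn_get rs, List.map_ofFn, seq_ofFn k hk]
  split_ifs at h ⊢
  · exact h1 hs h
  · exact hq hs h

variable {S S' : Scheme.{u}}

theorem isRelRegularImmersion_baseChange (f : X ⟶ S) (i : Z ⟶ X) (k : RegImm.Kind)
    (hk : k = RegImm.Kind.h1 ∨ k = RegImm.Kind.quasi) (hi : RegImm.IsRelRegularImmersion k f i) (g : S' ⟶ S) :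
    RegImm.IsRelRegularImmersion k (pullback.snd f g) (pullback.snd i (pullback.fst f g)) := by
  obtain ⟨⟨himm, hreg⟩, hfl⟩ := hi
  have hcX := IsPullback.of_hasPullback f g
  have hcZ := IsPullback.of_hasPullback i (pullback.fst f g)
  have hcomp : IsPullback (pullback.fst i (pullback.fst f g))
      (pullback.snd i (pullback.fst f g) ≫ pullback.snd f g) (i ≫ f) g := hcZ.paste_vert hcX
  haveI : Flat (pullback.snd i (pullback.fst f g) ≫ pullback.snd f g) := MorphismProperty.of_isPullback hcomp hfl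
  refine ⟨⟨inferInstance, fun z' => ?_⟩, inferInstance⟩
  let z := pullback.fst i (pullback.fst f g) z'
  let x' := pullback.snd i (pullback.fst f g) z'
  have hx' : pullback.fst f g x' = i z := by
    show (pullback.snd i (pullback.fst f g) ≫ pullback.fst f g) z' = (pullback.fst i (pullback.fst f g) ≫ i) z'
    rw [pullback.condition]
  obtain ⟨⟨U₀, hU₀⟩, hzU₀, hc₀, rs₀, hrs₀, hK₀⟩ := hreg z
  obtain ⟨_, ⟨W : S.Opens, hW, rfl⟩, hzW, -⟩ := S.isBasis_affineOpens.exists_subset_of_mem_open (Set.mem_univ (f (i z))) isOpen_univ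
  obtain ⟨t, htle, hzt⟩ := hU₀.exists_basicOpen_le (V := U₀ ⊓ f ⁻¹ᵁ W) ⟨i z, hzU₀, hzW⟩ hzU₀
  have hU : IsAffineOpen (X.basicOpen t) := hU₀.basicOpen t
  have e : X.basicOpen t ≤ f ⁻¹ᵁ W := htle.trans inf_le_right
  have hsq : IsPullback (𝟙 Z) i i (𝟙 X) := IsPullback.of_horiz_isIso ⟨by simp⟩
  obtain ⟨hc, hK⟩ := closed_and_ker_pullback hsq hU₀ hc₀ hU (show X.basicOpen t ≤ (𝟙 X) ⁻¹ᵁ U₀ from X.basicOpen_le t)
  rw [hK₀, Ideal.map_ofList] at hK
  let ρ : Γ(X, U₀) →+* Γ(X, X.basicOpen t) := ((𝟙 X : X ⟶ X).appLE U₀ (X.basicOpen t) (X.basicOpen_le t)).hom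
  have hrs : k.Seq Γ(X, X.basicOpen t) (rs₀.map ρ) := by
    letI : Algebra Γ(X, U₀) Γ(X, X.basicOpen t) := (X.presheaf.map (homOfLE (X.basicOpen_le t)).op).hom.toAlgebra
    haveI : IsLocalization.Away t Γ(X, X.basicOpen t) := hU₀.isLocalization_basicOpen t
    have hρ : ρ = algebraMap Γ(X, U₀) Γ(X, X.basicOpen t) := by
      simp only [ρ, Scheme.Hom.appLE, Scheme.Hom.id_app, Category.id_comp]
      rfl
    refine seq_map ρ k hk hrs₀ (fun _ h => ?_) (fun _ h => ?_)
    · rw [hρ]; exact isH1Regular_map (Submonoid.powers t) h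
    · rw [hρ]; exact isQuasiRegular_map (Submonoid.powers t) h
  set rs := rs₀.map ρ
  have hx'W : pullback.snd f g x' ∈ g ⁻¹ᵁ W := by
    show g (pullback.snd f g x') ∈ W
    rw [← Scheme.Hom.comp_apply, ← pullback.condition, Scheme.Hom.comp_apply, hx']
    exact e hzt
  obtain ⟨_, ⟨W' : S'.Opens, hW', rfl⟩, hx'W', e'⟩ := S'.isBasis_affineOpens.exists_subset_of_mem_open hx'W (g ⁻¹ᵁ W).2
  obtain ⟨hP, hpo⟩ := PullbackMod.isPushout_appLE hcX hW hU hW' e e'
  let V := pullback.fst f g ⁻¹ᵁ X.basicOpen t ⊓ pullback.snd f g ⁻¹ᵁ W'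
  obtain ⟨hcV, hKV⟩ := closed_and_ker_pullback hcZ hU hc hP (inf_le_left : V ≤ pullback.fst f g ⁻¹ᵁ X.basicOpen t)
  refine ⟨⟨V, hP⟩, ⟨?_, hx'W'⟩, hcV, rs.map ((pullback.fst f g).appLE (X.basicOpen t) V inf_le_left).hom, ?_, ?_⟩
  · show pullback.fst f g x' ∈ X.basicOpen t
    rw [hx']
    exact hzt
  swap
  · rw [hKV, ← Ideal.map_ofList]
    exact congrArg _ hK
  letI : Algebra Γ(S, W) Γ(X, X.basicOpen t) := (f.appLE W (X.basicOpen t) e).hom.toAlgebra
  letI : Algebra Γ(S, W) Γ(S', W') := (g.appLE W W' e').hom.toAlgebra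
  letI : Algebra Γ(X, X.basicOpen t) Γ(pullback f g, V) := ((pullback.fst f g).appLE (X.basicOpen t) V inf_le_left).hom.toAlgebra
  letI : Algebra Γ(S', W') Γ(pullback f g, V) := ((pullback.snd f g).appLE W' V inf_le_right).hom.toAlgebra
  letI : Algebra Γ(S, W) Γ(pullback f g, V) :=
    (((pullback.fst f g).appLE (X.basicOpen t) V inf_le_left).hom.comp (f.appLE W (X.basicOpen t) e).hom).toAlgebra
  haveI : IsScalarTower Γ(S, W) Γ(X, X.basicOpen t) Γ(pullback f g, V) := .of_algebraMap_eq fun _ => rfl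
  haveI : IsScalarTower Γ(S, W) Γ(S', W') Γ(pullback f g, V) := .of_algebraMap_eq' (by
    show ((f.appLE W (X.basicOpen t) e) ≫ (pullback.fst f g).appLE (X.basicOpen t) V inf_le_left).hom =
      ((g.appLE W W' e') ≫ (pullback.snd f g).appLE W' V inf_le_right).hom
    simp only [Scheme.Hom.appLE_comp_appLE, hcX.w])
  haveI : Algebra.IsPushout Γ(S, W) Γ(S', W') Γ(X, X.basicOpen t) Γ(pullback f g, V) := hpo
  obtain ⟨haff, hs⟩ := RegIdealLib.affine_and_surjective i hU hc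
  haveI hflq : Module.Flat Γ(S, W) (Γ(X, X.basicOpen t) ⧸ Ideal.ofList rs) := by
    have h1 := (i ≫ f).flat_appLE hW haff (fun y hy => e hy)
    letI := ((i ≫ f).appLE W (i ⁻¹ᵁ X.basicOpen t) (fun y hy => e hy)).hom.toAlgebra
    haveI : Module.Flat Γ(S, W) Γ(Z, i ⁻¹ᵁ X.basicOpen t) := h1
    let eq : (Γ(X, X.basicOpen t) ⧸ Ideal.ofList rs) ≃+* Γ(Z, i ⁻¹ᵁ X.basicOpen t) :=
      (Ideal.quotEquivOfEq hK.symm).trans (RingHom.quotientKerEquivOfSurjective hs)
    refine Module.Flat.of_linearEquiv (AlgEquiv.ofRingEquiv (f := eq) fun a => ?_).toLinearEquiv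
    show (i.app (X.basicOpen t)).hom ((f.appLE W (X.basicOpen t) e).hom a) = ((i ≫ f).appLE W (i ⁻¹ᵁ X.basicOpen t) _).hom a
    refine congrArg (fun φ => φ.hom a) (?_ : f.appLE W (X.basicOpen t) e ≫ i.app (X.basicOpen t) = _)
    rw [Scheme.Hom.app_eq_appLE, Scheme.Hom.appLE_comp_appLE]
  refine seq_map (algebraMap Γ(X, X.basicOpen t) Γ(pullback f g, V)) k hk hrs (fun hsf h => ?_) (fun hsf h => ?_)
  · rw [← hsf] at hflq
    haveI := hflq
    exact isH1Regular_baseChange (A := Γ(S, W)) (A' := Γ(S', W')) h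
  · rw [← hsf] at hflq
    haveI := hflq
    exact isQuasiRegular_baseChange (A := Γ(S, W)) (A' := Γ(S', W')) h

end Groth.Agent.RelDivLib
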