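import Mathlib
import Groth.Agent.RelDivLib.ImmBC
import Groth.Prelude.Def_Mor2

/-! Flat base change of regular immersions. -/

set_option autoImplicit false
set_option backward.isDefEq.respectTransparency false
set_option backward.defeqAttrib.useBackward true
set_option linter.style.haveILetI false

universe u

open CategoryTheory CategoryTheory.Limits AlgebraicGeometry RingTheory.Sequence

namespace Groth.Agent.RelDivLib

variable {Z X Z' X' : Scheme.{u}}

theorem ker_app_ne_top (i : Z ⟶ X) (V : X.Opens) (z : Z) (hz : i z ∈ V) : RingHom.ker (i.app V).hom ≠ ⊤ := by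
  haveI : Nontrivial Γ(Z, i ⁻¹ᵁ V) := by
    refine ⟨1, 0, fun h => ?_⟩
    have h1 := congrArg (Z.presheaf.germ (i ⁻¹ᵁ V) z hz) h
    rw [map_one, map_zero] at h1
    exact one_ne_zero h1
  exact fun h => one_ne_zero (α := Γ(Z, i ⁻¹ᵁ V)) (by rw [← map_one (i.app V).hom]; exact h.ge trivial)

theorem exists_regular_pullback {i : Z ⟶ X} {i' : Z' ⟶ X'} {p : X' ⟶ X} {q : Z' ⟶ Z} [Flat p]
    (hc : IsPullback q i' i p) {U : X.Opens} (hU : IsAffineOpen U) (hcl : IsClosedImmersion (i ∣_ U))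
    (rs : List Γ(X, U)) (hrs : IsRegular Γ(X, U) rs) (hker : RingHom.ker (i.app U).hom = Ideal.ofList rs)
    (z' : Z') (hz : i (q z') ∈ U) :
    ∃ V : X'.affineOpens, i' z' ∈ V.1 ∧ IsClosedImmersion (i' ∣_ V.1) ∧
      ∃ rs' : List Γ(X', V.1), IsRegular Γ(X', V.1) rs' ∧ RingHom.ker (i'.app V.1).hom = Ideal.ofList rs' := by
  have hpz : p (i' z') ∈ U := by
    rw [← Scheme.Hom.comp_apply, ← hc.w, Scheme.Hom.comp_apply]
    exact hz
  obtain ⟨V, hV, hzV, hVU⟩ := exists_isAffineOpen_mem_and_subset (U := p ⁻¹ᵁ U) hpz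
  obtain ⟨hcV, hkV⟩ := closed_and_ker_pullback hc hU hcl hV hVU
  let φ := (p.appLE U V hVU).hom
  letI : Algebra Γ(X, U) Γ(X', V) := φ.toAlgebra
  haveI : Module.Flat Γ(X, U) Γ(X', V) := HasRingHomProperty.appLE (P := @Flat) p inferInstance ⟨U, hU⟩ ⟨V, hV⟩ hVU
  have hk : RingHom.ker (i'.app V).hom = Ideal.ofList (rs.map φ) := by rw [hkV, hker, Ideal.map_ofList]
  refine ⟨⟨V, hV⟩, hzV, hcV, rs.map φ, ⟨IsWeaklyRegular.of_flat hrs.toIsWeaklyRegular, ?_⟩, hk⟩
  rw [smul_eq_mul, Ideal.mul_top, ← hk]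
  exact (ker_app_ne_top i' V z' hzV).symm

theorem isRegularImmersion_regular_baseChange_flat (i : Z ⟶ X) (g : X' ⟶ X) [Flat g]
    (hi : RegImm.IsRegularImmersion RegImm.Kind.regular i) :
    RegImm.IsRegularImmersion RegImm.Kind.regular (pullback.snd i g) := by
  haveI := hi.1
  refine ⟨inferInstance, fun z' => ?_⟩
  obtain ⟨U, hzU, hcl, rs, hrs, hk⟩ := hi.2 (pullback.fst i g z')
  exact exists_regular_pullback (IsPullback.of_hasPullback i g) U.2 hcl rs hrs hk z' hzU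

theorem isRegularClosedImmersion_baseChange_flat (i : Z ⟶ X) (g : X' ⟶ X) [Flat g]
    (hi : Mor2.IsRegularClosedImmersion i) : Mor2.IsRegularClosedImmersion (pullback.snd i g) := by
  haveI := hi.1
  refine ⟨inferInstance, fun z' => ?_⟩
  obtain ⟨U, hU, hzU, rs, hrs, hk⟩ := hi.2 (pullback.fst i g z')
  rw [Scheme.Hom.ker_apply] at hk
  obtain ⟨V, hzV, -, rs', hrs', hk'⟩ := exists_regular_pullback (IsPullback.of_hasPullback i g) hU inferInstance rs hrs hk z' hzU
  exact ⟨V.1, V.2, hzV, rs', hrs', (Scheme.Hom.ker_apply _ _).trans hk'⟩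

end Groth.Agent.RelDivLib
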