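import Mathlib
import Groth.Agent.RelDivLib.RegBC
import Groth.Agent.RelDivLib.ImmBC
import Groth.Prelude.Def_RegImm
import Groth.Prelude.Def_DDual2

/-! Koszul-regular, H₁-regular and quasi-regular sequences under flat base change. -/

set_option autoImplicit false
set_option backward.isDefEq.respectTransparency false
set_option linter.style.haveILetI false

universe u

open CategoryTheory CategoryTheory.Limits MvPolynomial
open scoped TensorProduct ChangeOfRings

namespace Groth.Agent.RelDivLib

variable {R S : Type u} [CommRing R] [CommRing S] [Algebra R S] [Module.Flat R S]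

/-- Relations over a flat algebra are generated by the relations over the base. -/
theorem relation_flat {ι : Type} [Fintype ι] [DecidableEq ι] (c : ι → R) (K : Submodule R (ι → R))
    (hK : ∀ v : ι → R, ∑ i, v i * c i = 0 → v ∈ K) (r : ι → S) (hr : ∑ i, r i * algebraMap R S (c i) = 0) :
    r ∈ Submodule.span S ((fun v i => algebraMap R S (v i)) '' (K : Set (ι → R))) := by
  let L : (ι → R) →ₗ[R] R := Fintype.linearCombination R c
  have hL : ∀ v, L v = ∑ i, v i * c i := fun v => by simp [L, Fintype.linearCombination_apply]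
  let E : S ⊗[R] (ι → R) ≃ₗ[S] (ι → S) := TensorProduct.piScalarRight R S S ι
  have hE : ∀ (s : S) (v : ι → R) (i : ι), E (s ⊗ₜ v) i = algebraMap R S (v i) * s := fun s v i => by
    simp [E, Algebra.smul_def]
  have hnat : ∀ w : S ⊗[R] (ι → R), TensorProduct.rid R S (L.lTensor S w) = ∑ i, E w i * algebraMap R S (c i) := fun w => by
    induction w with
    | zero => simp
    | tmul s v =>
      rw [LinearMap.lTensor_tmul, TensorProduct.rid_tmul, hL, Algebra.smul_def, map_sum, Finset.sum_mul]
      exact Finset.sum_congr rfl fun i _ => by rw [hE, map_mul]; ring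
    | add u v hu hv => simp only [map_add, hu, hv, Pi.add_apply, add_mul, Finset.sum_add_distrib]
  obtain ⟨w, rfl⟩ := E.surjective r
  rw [← hnat, LinearEquiv.map_eq_zero_iff] at hr
  obtain ⟨u, rfl⟩ := (Module.Flat.lTensor_exact S (LinearMap.exact_subtype_ker_map L) w).1 hr
  clear hr
  induction u with
  | zero => simp only [map_zero]; exact zero_mem _
  | tmul s v =>
    rw [LinearMap.lTensor_tmul]
    show E (s ⊗ₜ[R] v.1) ∈ _
    rw [show E (s ⊗ₜ[R] v.1) = s • fun i => algebraMap R S (v.1 i) from
      funext fun i => (hE s v.1 i).trans (mul_comm _ _)]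
    exact Submodule.smul_mem _ _ (Submodule.subset_span ⟨v.1, hK _ (by rw [← hL]; exact LinearMap.mem_ker.1 v.2), rfl⟩)
  | add x y hx hy => simp only [map_add]; exact add_mem hx hy

theorem isH1Regular_flat {n : ℕ} {f : Fin n → R} (hf : CAlgX.IsH1Regular f) :
    CAlgX.IsH1Regular fun i => algebraMap R S (f i) := by
  intro a ha
  refine Submodule.span_le.2 ?_ (relation_flat (S := S) f _ hf a ha)
  rintro _ ⟨v, hv, rfl⟩
  induction hv using Submodule.span_induction with
  | mem y hy =>
    obtain ⟨i, j, rfl⟩ := hy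
    refine Submodule.subset_span ⟨i, j, funext fun k => ?_⟩
    simp only [Pi.sub_apply, map_sub, Pi.single_apply, apply_ite (algebraMap R S), map_zero]
  | zero => simp only [Pi.zero_apply, map_zero]; exact zero_mem _
  | add y z _ _ hy hz => simpa only [Pi.add_apply, map_add] using! add_mem hy hz
  | smul b y _ hy =>
    simpa only [Pi.smul_apply, smul_eq_mul, map_mul] using! Submodule.smul_mem _ (algebraMap R S b) hy

theorem isQuasiRegular_flat {n : ℕ} {f : Fin n → R} (hf : CAlgX.IsQuasiRegular f) :
    CAlgX.IsQuasiRegular fun i => algebraMap R S (f i) := by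
  classical
  intro d Q hQ hev q
  set J' := Ideal.span (Set.range fun i => algebraMap R S (f i))
  by_cases hq : q ∈ (Finset.univ : Finset (Fin n)).finsuppAntidiag d
  swap
  · rw [hQ.coeff_eq_zero (fun hd => hq (by
      rw [Finset.mem_finsuppAntidiag]
      exact ⟨by rw [← hd, Finsupp.degree_eq_sum], Finset.subset_univ _⟩))]
    exact zero_mem _
  rw [pow_succ', show J' ^ d = Ideal.span ((fun i => algebraMap R S (f i)) '' Set.univ) ^ d by rw [Set.image_univ]] at hev
  obtain ⟨Q', hQ', -, hQ'c, hQ'e⟩ := QRegLib.exists_poly_of_mem_mul_pow _ J' Set.univ d _ hev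
  let K : Submodule R ((Finset.univ : Finset (Fin n)).finsuppAntidiag d → R) :=
    Submodule.pi (φ := fun _ : (Finset.univ : Finset (Fin n)).finsuppAntidiag d => R) Set.univ
      fun _ => (Ideal.span (Set.range f) : Submodule R R)
  have hR0 : eval (fun i => algebraMap R S (f i)) (Q - Q') = 0 := by rw [map_sub, hQ'e, sub_self]
  rw [eval_eq_sum _ d _ (hQ.sub hQ')] at hR0
  have h1 := relation_flat (S := S)
    (fun m : (Finset.univ : Finset (Fin n)).finsuppAntidiag d => ∏ i, f i ^ m.1 i) K
    (fun v hv => by
      obtain ⟨V, hV, hVc, hVe⟩ := exists_poly f d v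
      exact fun m _ => hVc m ▸ hf d V hV (by rw [hVe, hv]; exact zero_mem _) m.1)
    (fun m => (Q - Q').coeff m.1) (by simpa only [map_prod, map_pow] using hR0)
  have h2 : Submodule.span S ((fun (v : (Finset.univ : Finset (Fin n)).finsuppAntidiag d → R) m => algebraMap R S (v m)) '' (K : Set _)) ≤
      Submodule.pi (φ := fun _ : (Finset.univ : Finset (Fin n)).finsuppAntidiag d => S) Set.univ
        fun _ => (J' : Submodule S S) := by
    rw [Submodule.span_le]
    rintro _ ⟨v, hv, rfl⟩ m -
    have := Ideal.mem_map_of_mem (algebraMap R S) (hv m trivial)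
    rw [Ideal.map_span, ← Set.range_comp] at this
    exact this
  simpa [coeff_sub] using add_mem (h2 h1 ⟨q, hq⟩ trivial) (hQ'c q)

/-- Mapping cones of morphisms conjugate by isomorphisms are isomorphic. -/
noncomputable def mappingConeCongr {C : Type*} [Category C] [Preadditive C] [HasBinaryBiproducts C]
    {K₁ L₁ K₂ L₂ : CochainComplex C ℤ} (φ₁ : K₁ ⟶ L₁) (φ₂ : K₂ ⟶ L₂) (a : K₁ ≅ K₂) (b : L₁ ≅ L₂)
    (comm : φ₁ ≫ b.hom = a.hom ≫ φ₂) : CochainComplex.mappingCone φ₁ ≅ CochainComplex.mappingCone φ₂ where
  hom := CochainComplex.mappingCone.map φ₁ φ₂ a.hom b.hom comm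
  inv := CochainComplex.mappingCone.map φ₂ φ₁ a.inv b.inv
    (by rw [Iso.comp_inv_eq, Category.assoc, comm, Iso.inv_hom_id_assoc])
  hom_inv_id := by
    rw [← CochainComplex.mappingCone.map_comp, ← CochainComplex.mappingCone.map_id]; simp
  inv_hom_id := by
    rw [← CochainComplex.mappingCone.map_comp, ← CochainComplex.mappingCone.map_id]; simp

variable (R S) in
/-- Extension of scalars on cochain complexes. -/
noncomputable abbrev extCx : CochainComplex (ModuleCat.{u} R) ℤ ⥤ CochainComplex (ModuleCat.{u} S) ℤ :=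
  (ModuleCat.extendScalars.{u, u, u} (algebraMap R S)).mapHomologicalComplex (ComplexShape.up ℤ)

omit [Module.Flat R S] in
theorem nonempty_koszul_extendScalars (l : List R) :
    Nonempty ((extCx R S).obj (Koszul.koszul R l) ≅ Koszul.koszul S (l.map (algebraMap R S))) := by
  induction l with
  | nil =>
    exact ⟨(HomologicalComplex.singleMapHomologicalComplex (ModuleCat.extendScalars.{u, u, u} (algebraMap R S))
      (ComplexShape.up ℤ) 0).app (ModuleCat.of R R) ≪≫
      (HomologicalComplex.single (ModuleCat.{u} S) (ComplexShape.up ℤ) 0).mapIso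
        (Functor.Monoidal.εIso (ModuleCat.extendScalars.{u, u, u} (algebraMap R S))).symm⟩
  | cons f l ih =>
    obtain ⟨e⟩ := ih
    refine ⟨CochainComplex.mappingCone.mapHomologicalComplexIso _ _ ≪≫ mappingConeCongr _ _ e e ?_⟩
    have h : ∀ M : ModuleCat.{u} R, (ModuleCat.extendScalars.{u, u, u} (algebraMap R S)).map (f • 𝟙 M) =
        algebraMap R S f • 𝟙 ((ModuleCat.extendScalars.{u, u, u} (algebraMap R S)).obj M) := fun M => by
      refine ModuleCat.ExtendScalars.hom_ext fun m => ?_
      let φ := algebraMap R S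
      show (1 : S) ⊗ₜ[R,φ] (f • m) =
        φ f • ((1 : S) ⊗ₜ[R,φ] m : (ModuleCat.extendScalars.{u, u, u} φ).obj M)
      rw [ModuleCat.ExtendScalars.smul_tmul]
      letI : Module R S := Module.compHom S φ
      exact (TensorProduct.smul_tmul f (1 : S) m).symm
    rw [show (extCx R S).map (f • 𝟙 (Koszul.koszul R l)) = algebraMap R S f • 𝟙 _ from
      HomologicalComplex.hom_ext _ _ fun i => h _]
    rw [Linear.smul_comp, Linear.comp_smul, Category.id_comp, Category.comp_id]

theorem isKoszulRegularSeq_flat {l : List R} (hl : LCI.IsKoszulRegularSeq R l) :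
    LCI.IsKoszulRegularSeq S (l.map (algebraMap R S)) := by
  intro i hi
  obtain ⟨e⟩ := nonempty_koszul_extendScalars (S := S) l
  haveI : Limits.PreservesFiniteLimits (ModuleCat.extendScalars.{u, u, u} (algebraMap R S)) :=
    ModuleCat.preservesFiniteLimits_extendScalars_of_flat (RingHom.flat_algebraMap_iff.2 inferInstance)
  refine IsZero.of_iso ((ModuleCat.extendScalars.{u, u, u} (algebraMap R S)).map_isZero (hl i hi)) ?_
  exact ((HomologicalComplex.homologyFunctor (ModuleCat.{u} S) (ComplexShape.up ℤ) i).mapIso e).symm ≪≫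
    ((Koszul.koszul R l).sc i).mapHomologyIso (ModuleCat.extendScalars.{u, u, u} (algebraMap R S))

omit [Algebra R S] [Module.Flat R S] in
/-- The three weaker kinds of regular sequences are preserved by flat ring maps. -/
theorem seq_flat (φ : R →+* S) (hφ : φ.Flat) (k : RegImm.Kind) (hk : k ≠ RegImm.Kind.regular) {rs : List R}
    (h : k.Seq R rs) : k.Seq S (rs.map φ) := by
  letI := φ.toAlgebra
  haveI : Module.Flat R S := hφ
  match k, hk, h with
  | .koszul, _, h => exact isKoszulRegularSeq_flat h
  | .h1, _, h => exact seq_map φ .h1 (Or.inl rfl) h (fun _ h => isH1Regular_flat h) (fun _ h => isQuasiRegular_flat h)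
  | .quasi, _, h => exact seq_map φ .quasi (Or.inr rfl) h (fun _ h => isH1Regular_flat h) (fun _ h => isQuasiRegular_flat h)

end Groth.Agent.RelDivLib
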