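import Mathlib
import Groth.Agent.RelDivLib.ImmBC
import Groth.Agent.RegSeqSlice.Scheme
import Groth.Agent.IdealStalkLib.Cartier

/-! Relative quasi-regular immersions into flat finitely presented schemes are cut out by flat coordinates. -/

set_option autoImplicit false
set_option backward.isDefEq.respectTransparency false
set_option backward.defeqAttrib.useBackward true
set_option linter.style.haveILetI false

universe u

open CategoryTheory CategoryTheory.Limits AlgebraicGeometry TensorProduct IsLocalRing RingTheory.Sequence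

namespace Groth.Agent.RelDivLib

theorem isPushout_quot {A O : Type u} [CommRing A] [CommRing O] [Algebra A O] (m : Ideal A) :
    Algebra.IsPushout A (A ⧸ m) O (O ⧸ m.map (algebraMap A O)) where
  out := IsBaseChange.of_equiv (Algebra.TensorProduct.quotIdealMapEquivQuotTensor O m).symm.toLinearEquiv fun x => by
    show (Algebra.TensorProduct.quotIdealMapEquivQuotTensor O m).symm ((1 : A ⧸ m) ⊗ₜ[A] x) = Ideal.Quotient.mk _ x
    rw [AlgEquiv.symm_apply_eq]
    rfl

variable {Z X S : Scheme.{u}}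

/-- Near a point, a relative quasi-regular immersion into a flat lfp scheme is cut out by flat coordinates. -/
theorem exists_transversal_chart (f : X ⟶ S) [Flat f] [LocallyOfFinitePresentation f] (i : Z ⟶ X)
    (hi : RegImm.IsRelRegularImmersion RegImm.Kind.quasi f i) (z : Z) :
    ∃ (W : S.Opens) (U : X.Opens) (_ : IsAffineOpen W) (_ : IsAffineOpen U) (e : U ≤ f ⁻¹ᵁ W) (n : ℕ) (b : Fin n → Γ(X, U)),
      i z ∈ U ∧ IsClosedImmersion (i ∣_ U) ∧ RingHom.ker (i.app U).hom = Ideal.span (Set.range b) ∧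
      letI := (f.appLE W U e).hom.toAlgebra
      letI := (MvPolynomial.aeval (R := Γ(S, W)) b).toRingHom.toAlgebra
      Module.Flat (MvPolynomial (Fin n) Γ(S, W)) Γ(X, U) := by
  obtain ⟨⟨himm, hreg⟩, hfl⟩ := hi
  obtain ⟨⟨U₁, hU₁⟩, hz₁, hc₁, rs, hrs, hK₁⟩ := hreg z
  set x := i z
  let O := X.presheaf.stalk x
  let A := S.presheaf.stalk (f x)
  letI : Algebra Γ(X, U₁) O := TopCat.Presheaf.algebra_section_stalk X.presheaf ⟨x, hz₁⟩
  haveI := hU₁.isLocalization_stalk ⟨x, hz₁⟩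
  let h : Fin rs.length → O := fun j => algebraMap Γ(X, U₁) O (rs.get j)
  have hhq : CAlgX.IsQuasiRegular h := isQuasiRegular_map (hU₁.primeIdealOf ⟨x, hz₁⟩).asIdeal.primeCompl hrs
  have hspan : RingHom.ker (i.stalkMap z).hom = Ideal.span (Set.range h) := by
    rw [RegIdealLib.ker_stalkMap i hU₁ hc₁ z hz₁]
    show (RingHom.ker (i.app U₁).hom).map _ = _
    rw [hK₁, show Ideal.ofList rs = Ideal.span (Set.range rs.get) from by rw [← RegIdealLib.ofList_ofFn, List.ofFn_get],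
      Ideal.map_span, ← Set.range_comp]
    rfl
  have hm : ∀ j, h j ∈ maximalIdeal O := fun j =>
    le_maximalIdeal (RingHom.ker_ne_top (i.stalkMap z).hom) (hspan.ge (Ideal.subset_span ⟨j, rfl⟩))
  letI : Algebra A O := (f.stalkMap x).hom.toAlgebra
  haveI : Module.Flat A (O ⧸ Ideal.span (Set.range h)) := by
    letI : Algebra A (Z.presheaf.stalk z) := ((i ≫ f).stalkMap z).hom.toAlgebra
    haveI : Module.Flat A (Z.presheaf.stalk z) := Flat.stalkMap (i ≫ f) z
    let eq : (O ⧸ Ideal.span (Set.range h)) ≃+* Z.presheaf.stalk z :=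
      (Ideal.quotEquivOfEq hspan.symm).trans
        (RingHom.quotientKerEquivOfSurjective (f := (i.stalkMap z).hom) (i.stalkMap_surjective z))
    exact Module.Flat.of_linearEquiv (AlgEquiv.ofRingEquiv (f := eq) fun r => by
      show (i.stalkMap z).hom ((f.stalkMap x).hom r) = ((i ≫ f).stalkMap z).hom r
      rw [Scheme.Hom.stalkMap_comp]
      rfl).toLinearEquiv
  let mO : Ideal O := (maximalIdeal A).map (algebraMap A O)
  haveI := isPushout_quot (O := O) (maximalIdeal A)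
  have hbar : CAlgX.IsQuasiRegular fun j => Ideal.Quotient.mk mO (h j) :=
    isQuasiRegular_baseChange (A := A) (A' := A ⧸ maximalIdeal A) (P := O ⧸ mO) hhq
  haveI : IsNoetherianRing (O ⧸ mO) := by
    suffices H : ∀ (s : S) (w : f.fiber s), IsNoetherianRing (↑(X.presheaf.stalk (f.fiberι s w)) ⧸
        Ideal.map (f.stalkMap (f.fiberι s w)).hom (maximalIdeal (S.presheaf.stalk (f (f.fiberι s w))))) by
      have h1 := H (f x) (f.asFiber x)
      rw [f.fiberι_asFiber x] at h1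
      exact h1
    intro s w
    haveI : LocallyOfFiniteType (f.fiberToSpecResidueField s) := MorphismProperty.pullback_snd _ _ (inferInstanceAs (LocallyOfFiniteType f))
    haveI : IsLocallyNoetherian (f.fiber s) := LocallyOfFiniteType.isLocallyNoetherian (f.fiberToSpecResidueField s)
    exact isNoetherianRing_of_ringEquiv _ ((Ideal.quotEquivOfEq (FlatLocus.ker_fiberι_stalkMap f s w).symm).trans
      (RingHom.quotientKerEquivOfSurjective (FlatLocus.fiberι_stalkMap_surjective f s w))).symm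
  have hmO : mO ≤ maximalIdeal O :=
    ((local_hom_TFAE (algebraMap A O)).out 0 2).1 (show IsLocalHom (f.stalkMap x).hom from inferInstance)
  haveI : Nontrivial (O ⧸ mO) := Ideal.Quotient.nontrivial_iff.2 (ne_top_of_le_ne_top (maximalIdeal.isMaximal O).ne_top hmO)
  haveI : IsLocalRing (O ⧸ mO) := IsLocalRing.of_surjective' (Ideal.Quotient.mk mO) Ideal.Quotient.mk_surjective
  have hjac : Ideal.span (Set.range fun j => Ideal.Quotient.mk mO (h j)) ≤ Ideal.jacobson ⊥ := by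
    rw [IsLocalRing.jacobson_eq_maximalIdeal ⊥ bot_ne_top]
    refine Ideal.span_le.2 ?_
    rintro _ ⟨j, rfl⟩
    refine (mem_maximalIdeal _).2 fun hu => (maximalIdeal.isMaximal O).ne_top ?_
    obtain ⟨c, hc⟩ := hu.exists_right_inv
    obtain ⟨c, rfl⟩ := Ideal.Quotient.mk_surjective c
    rw [← map_mul, ← map_one (Ideal.Quotient.mk mO), Ideal.Quotient.eq] at hc
    exact (Ideal.eq_top_iff_one _).2 (by simpa using sub_mem (Ideal.mul_mem_right c _ (hm j)) (hmO hc))
  obtain ⟨W, U₂, hW, hU₂, hz₂, e₂, b, hb, hfl₂⟩ := RegSeqSlice.exists_flat_coordinates f x (Flat.stalkMap f x) h hm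
    (Groth.Agent.QRegLib.isWeaklyRegular_of_isQuasiRegular _ hjac hbar)
  obtain ⟨t₀, ht₀, hzt₀⟩ := hU₂.exists_basicOpen_le (V := U₁ ⊓ U₂) ⟨x, hz₁, hz₂⟩ hz₂
  have hsq : IsPullback (𝟙 Z) i i (𝟙 X) := IsPullback.of_horiz_isIso ⟨by simp⟩
  obtain ⟨hc₃, hK₃⟩ := closed_and_ker_pullback hsq hU₁ hc₁ (hU₂.basicOpen t₀)
    (show X.basicOpen t₀ ≤ (𝟙 X) ⁻¹ᵁ U₁ from ht₀.trans inf_le_left)
  let U₃ := X.basicOpen t₀
  have hU₃ : IsAffineOpen U₃ := hU₂.basicOpen t₀
  let b₃ : Fin rs.length → Γ(X, U₃) := fun j => (X.presheaf.map (homOfLE (X.basicOpen_le t₀)).op).hom (b j)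
  letI : Algebra Γ(X, U₃) O := TopCat.Presheaf.algebra_section_stalk X.presheaf ⟨x, hzt₀⟩
  haveI := hU₃.isLocalization_stalk ⟨x, hzt₀⟩
  have hb₃ : ∀ j, algebraMap Γ(X, U₃) O (b₃ j) = h j := fun j =>
    (TopCat.Presheaf.germ_res_apply X.presheaf (homOfLE (X.basicOpen_le t₀)) x hzt₀ (b j)).trans (hb j)
  have hfg : (RingHom.ker (i.app U₃).hom).FG := by
    classical
    rw [hK₃, hK₁, Ideal.map_ofList]
    exact ⟨(List.map _ rs).toFinset, by rw [List.coe_toFinset]⟩
  obtain ⟨t, htq, ht⟩ := IdealStalkLib.exists_notMem_map_away_eq (O := O) (hU₃.primeIdealOf ⟨x, hzt₀⟩).asIdeal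
    (RingHom.ker (i.app U₃).hom) (Ideal.span (Set.range b₃)) hfg (Submodule.fg_span (Set.finite_range b₃)) (by
      rw [Ideal.map_span, ← Set.range_comp, show algebraMap Γ(X, U₃) O ∘ b₃ = h from funext hb₃, ← hspan]
      exact (RegIdealLib.ker_stalkMap i hU₃ hc₃ z hzt₀).symm)
  have hzt : x ∈ X.basicOpen t :=
    (X.mem_basicOpen t x hzt₀).2 (IsLocalization.map_units O (⟨t, htq⟩ : (hU₃.primeIdealOf ⟨x, hzt₀⟩).asIdeal.primeCompl))
  have hU : IsAffineOpen (X.basicOpen t) := hU₃.basicOpen t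
  obtain ⟨hc, hK⟩ := closed_and_ker_pullback hsq hU₃ hc₃ hU (show X.basicOpen t ≤ (𝟙 X) ⁻¹ᵁ U₃ from X.basicOpen_le t)
  let ρ : Γ(X, U₃) →+* Γ(X, X.basicOpen t) := (X.presheaf.map (homOfLE (X.basicOpen_le t)).op).hom
  let b' : Fin rs.length → Γ(X, X.basicOpen t) := fun j => ρ (b₃ j)
  have e' : X.basicOpen t ≤ f ⁻¹ᵁ W := ((X.basicOpen_le t).trans (X.basicOpen_le t₀)).trans e₂
  refine ⟨W, X.basicOpen t, hW, hU, e', rs.length, b', hzt, hc, ?_, ?_⟩
  · letI : Algebra Γ(X, U₃) Γ(X, X.basicOpen t) := ρ.toAlgebra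
    haveI : IsLocalization.Away t Γ(X, X.basicOpen t) := hU₃.isLocalization_basicOpen t
    have hid : ((𝟙 X : X ⟶ X).appLE U₃ (X.basicOpen t) (X.basicOpen_le t)).hom = algebraMap Γ(X, U₃) Γ(X, X.basicOpen t) := by
      simp only [Scheme.Hom.appLE, Scheme.Hom.id_app, Category.id_comp]
      rfl
    rw [hK, hid, ht _ (IsLocalization.Away.algebraMap_isUnit t), Ideal.map_span, ← Set.range_comp]
    rfl
  · letI : Algebra Γ(S, W) Γ(X, U₂) := (f.appLE W U₂ e₂).hom.toAlgebra
    letI : Algebra Γ(S, W) Γ(X, X.basicOpen t) := (f.appLE W (X.basicOpen t) e').hom.toAlgebra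
    let σ : Γ(X, U₂) →+* Γ(X, X.basicOpen t) :=
      ρ.comp (X.presheaf.map (homOfLE (X.basicOpen_le t₀)).op).hom
    letI : Algebra Γ(X, U₂) Γ(X, X.basicOpen t) := σ.toAlgebra
    haveI : IsScalarTower Γ(S, W) Γ(X, U₂) Γ(X, X.basicOpen t) := IsScalarTower.of_algebraMap_eq fun r => by
      show (f.appLE W (X.basicOpen t) e').hom r =
        ((f.appLE W U₂ e₂ ≫ X.presheaf.map (homOfLE (X.basicOpen_le t₀)).op) ≫ X.presheaf.map (homOfLE (X.basicOpen_le t)).op).hom r
      rw [Scheme.Hom.appLE_map, Scheme.Hom.appLE_map]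
    letI : Algebra (MvPolynomial (Fin rs.length) Γ(S, W)) Γ(X, U₂) := (MvPolynomial.aeval (R := Γ(S, W)) b).toRingHom.toAlgebra
    letI : Algebra (MvPolynomial (Fin rs.length) Γ(S, W)) Γ(X, X.basicOpen t) :=
      (MvPolynomial.aeval (R := Γ(S, W)) b').toRingHom.toAlgebra
    haveI : IsScalarTower (MvPolynomial (Fin rs.length) Γ(S, W)) Γ(X, U₂) Γ(X, X.basicOpen t) :=
      IsScalarTower.of_algebraMap_eq fun p =>
        (MvPolynomial.comp_aeval_apply b (IsScalarTower.toAlgHom Γ(S, W) Γ(X, U₂) Γ(X, X.basicOpen t)) p).symm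
    haveI : Module.Flat (MvPolynomial (Fin rs.length) Γ(S, W)) Γ(X, U₂) := hfl₂
    haveI : Module.Flat Γ(X, U₂) Γ(X, X.basicOpen t) := by
      have h1 : (σ : Γ(X, U₂) →+* Γ(X, X.basicOpen t)).Flat := by
        refine RingHom.Flat.comp ?_ ?_
        · have := (𝟙 X : X ⟶ X).flat_appLE hU₂ hU₃ (X.basicOpen_le t₀)
          simpa only [Scheme.Hom.appLE, Scheme.Hom.id_app, Category.id_comp] using! this
        · have := (𝟙 X : X ⟶ X).flat_appLE hU₃ hU (X.basicOpen_le t)
          simpa only [Scheme.Hom.appLE, Scheme.Hom.id_app, Category.id_comp] using! this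
      exact h1
    exact Module.Flat.trans _ Γ(X, U₂) _

theorem isRegularImmersion_of_relQuasiRegular (f : X ⟶ S) [Flat f] [LocallyOfFinitePresentation f] (i : Z ⟶ X)
    (hi : RegImm.IsRelRegularImmersion RegImm.Kind.quasi f i) {S' : Scheme.{u}} (g : S' ⟶ S) :
    RegImm.IsRegularImmersion RegImm.Kind.regular (pullback.snd i (pullback.fst f g)) := by
  haveI := hi.1.1
  refine ⟨inferInstance, fun z' => ?_⟩
  let z := pullback.fst i (pullback.fst f g) z'
  let x' := pullback.snd i (pullback.fst f g) z'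
  have hx' : pullback.fst f g x' = i z := by
    show (pullback.snd i (pullback.fst f g) ≫ pullback.fst f g) z' = (pullback.fst i (pullback.fst f g) ≫ i) z'
    rw [pullback.condition]
  obtain ⟨W, U, hW, hU, e, n, b, hzU, hc, hK, hfl⟩ := exists_transversal_chart f i hi z
  have hcX := IsPullback.of_hasPullback f g
  have hcZ := IsPullback.of_hasPullback i (pullback.fst f g)
  have hx'W : pullback.snd f g x' ∈ g ⁻¹ᵁ W := by
    show g (pullback.snd f g x') ∈ W
    rw [← Scheme.Hom.comp_apply, ← pullback.condition, Scheme.Hom.comp_apply, hx']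
    exact e hzU
  obtain ⟨_, ⟨W' : S'.Opens, hW', rfl⟩, hx'W', e'⟩ := S'.isBasis_affineOpens.exists_subset_of_mem_open hx'W (g ⁻¹ᵁ W).2
  obtain ⟨hP, hpo⟩ := PullbackMod.isPushout_appLE hcX hW hU hW' e e'
  let V := pullback.fst f g ⁻¹ᵁ U ⊓ pullback.snd f g ⁻¹ᵁ W'
  obtain ⟨hcV, hKV⟩ := closed_and_ker_pullback hcZ hU hc hP (inf_le_left : V ≤ pullback.fst f g ⁻¹ᵁ U)
  have hzV : x' ∈ V := ⟨by show pullback.fst f g x' ∈ U; rw [hx']; exact hzU, hx'W'⟩
  letI : Algebra Γ(S, W) Γ(X, U) := (f.appLE W U e).hom.toAlgebra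
  letI : Algebra (MvPolynomial (Fin n) Γ(S, W)) Γ(X, U) := (MvPolynomial.aeval (R := Γ(S, W)) b).toRingHom.toAlgebra
  haveI : IsScalarTower Γ(S, W) (MvPolynomial (Fin n) Γ(S, W)) Γ(X, U) := IsScalarTower.of_algHom (MvPolynomial.aeval b)
  haveI : Module.Flat (MvPolynomial (Fin n) Γ(S, W)) Γ(X, U) := hfl
  letI : Algebra Γ(S, W) Γ(S', W') := (g.appLE W W' e').hom.toAlgebra
  letI : Algebra Γ(X, U) Γ(pullback f g, V) := ((pullback.fst f g).appLE U V inf_le_left).hom.toAlgebra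
  letI : Algebra Γ(S', W') Γ(pullback f g, V) := ((pullback.snd f g).appLE W' V inf_le_right).hom.toAlgebra
  letI : Algebra Γ(S, W) Γ(pullback f g, V) :=
    (((pullback.fst f g).appLE U V inf_le_left).hom.comp (f.appLE W U e).hom).toAlgebra
  haveI : IsScalarTower Γ(S, W) Γ(X, U) Γ(pullback f g, V) := .of_algebraMap_eq fun _ => rfl
  haveI : IsScalarTower Γ(S, W) Γ(S', W') Γ(pullback f g, V) := .of_algebraMap_eq' (by
    show ((f.appLE W U e) ≫ (pullback.fst f g).appLE U V inf_le_left).hom =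
      ((g.appLE W W' e') ≫ (pullback.snd f g).appLE W' V inf_le_right).hom
    simp only [Scheme.Hom.appLE_comp_appLE, hcX.w])
  haveI : Algebra.IsPushout Γ(S, W) Γ(S', W') Γ(X, U) Γ(pullback f g, V) := hpo
  haveI : Algebra.IsPushout Γ(S, W) Γ(X, U) Γ(S', W') Γ(pullback f g, V) := Algebra.IsPushout.symm hpo
  let E := Algebra.IsPushout.equiv Γ(S, W) Γ(X, U) Γ(S', W') Γ(pullback f g, V)
  let bP : Fin n → Γ(pullback f g, V) := fun j => algebraMap Γ(X, U) Γ(pullback f g, V) (b j)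
  have hker : RingHom.ker ((pullback.snd i (pullback.fst f g)).app V).hom = Ideal.ofList (List.ofFn bP) := by
    rw [hKV, hK, RegIdealLib.ofList_ofFn, Ideal.map_span, ← Set.range_comp]
    rfl
  have h1 := RegSeqSlice.isWeaklyRegular_tensor (A := Γ(S, W)) (B := Γ(X, U)) (n := n) Γ(S', W')
  have hwr : IsWeaklyRegular Γ(pullback f g, V) (List.ofFn bP) := by
    refine (E.toRingEquiv.toAddEquiv.isWeaklyRegular_congr ?_).1 h1
    rw [show List.ofFn bP = (List.ofFn fun j : Fin n => algebraMap Γ(X, U) (Γ(X, U) ⊗[Γ(S, W)] Γ(S', W'))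
      (algebraMap (MvPolynomial (Fin n) Γ(S, W)) Γ(X, U) (MvPolynomial.X j))).map E from by
        rw [List.map_ofFn]
        refine congrArg List.ofFn (funext fun j => ?_)
        show algebraMap Γ(X, U) Γ(pullback f g, V) (b j) = _
        rw [Function.comp_apply, AlgEquiv.commutes]
        exact congrArg _ (MvPolynomial.aeval_X b j).symm]
    exact List.forall₂_map_right_iff.2 (List.forall₂_same.2 fun r _ y => map_mul E r y)
  refine ⟨⟨V, hP⟩, hzV, hcV, List.ofFn bP, ⟨hwr, ?_⟩, hker⟩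
  rw [smul_eq_mul, Ideal.mul_top, ← hker]
  intro htop
  have h2 : (pullback.snd i (pullback.fst f g)).app V (1 : Γ(pullback f g, V)) = 0 :=
    (RingHom.mem_ker).1 (htop.le (Submodule.mem_top (x := (1 : Γ(pullback f g, V)))))
  have h3 := congrArg ((pullback i (pullback.fst f g)).presheaf.germ _ z' hzV) h2
  rw [map_one, map_one, map_zero] at h3
  exact one_ne_zero h3

theorem isRegularImmersion_self (f : X ⟶ S) [Flat f] [LocallyOfFinitePresentation f] (i : Z ⟶ X)
    (hi : RegImm.IsRelRegularImmersion RegImm.Kind.quasi f i) : RegImm.IsRegularImmersion RegImm.Kind.regular i := by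
  refine ⟨hi.1.1, fun z => ?_⟩
  obtain ⟨W, U, hW, hU, e, n, b, hzU, hc, hK, hfl⟩ := exists_transversal_chart f i hi z
  letI : Algebra Γ(S, W) Γ(X, U) := (f.appLE W U e).hom.toAlgebra
  letI : Algebra (MvPolynomial (Fin n) Γ(S, W)) Γ(X, U) := (MvPolynomial.aeval (R := Γ(S, W)) b).toRingHom.toAlgebra
  haveI : IsScalarTower Γ(S, W) (MvPolynomial (Fin n) Γ(S, W)) Γ(X, U) := IsScalarTower.of_algHom (MvPolynomial.aeval b)
  haveI : Module.Flat (MvPolynomial (Fin n) Γ(S, W)) Γ(X, U) := hfl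
  have h1 := RegSeqSlice.isWeaklyRegular_of_flat (A := Γ(S, W)) (B := Γ(X, U)) (n := n)
  have hX : (fun j : Fin n => algebraMap (MvPolynomial (Fin n) Γ(S, W)) Γ(X, U) (MvPolynomial.X j)) = b :=
    funext fun j => MvPolynomial.aeval_X b j
  rw [hX] at h1
  have hker : RingHom.ker (i.app U).hom = Ideal.ofList (List.ofFn b) := hK.trans (RegIdealLib.ofList_ofFn b).symm
  refine ⟨⟨U, hU⟩, hzU, hc, List.ofFn b, ⟨h1, ?_⟩, hker⟩
  rw [smul_eq_mul, Ideal.mul_top, ← hker]
  intro htop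
  have h2 : i.app U (1 : Γ(X, U)) = 0 := (RingHom.mem_ker).1 (htop.le (Submodule.mem_top (x := (1 : Γ(X, U)))))
  have h3 := congrArg (Z.presheaf.germ _ z hzU) h2
  rw [map_one, map_one, map_zero] at h3
  exact one_ne_zero h3

end Groth.Agent.RelDivLib
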