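import Mathlib
import Groth.Agent.RelDivLib.Transversal
import Groth.Agent.BlowCompLib.Flat

/-! Fibrewise quasi-regular closed subschemes, flat over the base, are relative quasi-regular. -/

set_option autoImplicit false
set_option backward.isDefEq.respectTransparency false
set_option backward.defeqAttrib.useBackward true
set_option linter.style.haveILetI false

universe u

open CategoryTheory CategoryTheory.Limits AlgebraicGeometry IsLocalRing RingTheory.Sequence

namespace Groth.Agent.RelDivLib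

variable {X S : Scheme.{u}}

/-- Lifts of a regular sequence of the fibre generating the ideal modulo the maximal ideal of the base. -/
theorem exists_fibre_lifts (φ : X ⟶ S) [LocallyOfFinitePresentation φ] (I : X.IdealSheafData) (s : S) (w : φ.fiber s)
    (hw : φ.fiberι s w ∈ I.support)
    (hfib : RegImm.IsRegularImmersion RegImm.Kind.quasi (pullback.snd I.subschemeι (φ.fiberι s))) :
    let x := φ.fiberι s w
    ∃ (n : ℕ) (h : Fin n → X.presheaf.stalk x), (∀ j, h j ∈ IntMult.stalkIdeal I x) ∧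
      IntMult.stalkIdeal I x ≤ Ideal.span (Set.range h) ⊔ Ideal.map (φ.stalkMap x).hom (maximalIdeal (S.presheaf.stalk (φ x))) ∧
      IsWeaklyRegular (↑(X.presheaf.stalk x) ⧸ Ideal.map (φ.stalkMap x).hom (maximalIdeal ↑(S.presheaf.stalk (φ x))))
        (List.ofFn fun j => Ideal.Quotient.mk (Ideal.map (φ.stalkMap x).hom (maximalIdeal ↑(S.presheaf.stalk (φ x)))) (h j)) := by
  intro x
  obtain ⟨z, hz⟩ : ∃ z, I.subschemeι z = x := by
    rw [← Set.mem_range, Scheme.IdealSheafData.range_subschemeι]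
    exact hw
  obtain ⟨p, -, hpw⟩ := Scheme.Pullback.exists_preimage_pullback (f := I.subschemeι) (g := φ.fiberι s) z w hz
  let ι' := pullback.snd I.subschemeι (φ.fiberι s)
  have hpw' : ι' p = w := hpw
  subst hpw'
  obtain ⟨⟨U₁, hU₁⟩, hp₁, hc₁, rs, hrs, hK₁⟩ := hfib.2 p
  letI : Algebra Γ(φ.fiber s, U₁) ((φ.fiber s).presheaf.stalk (ι' p)) := TopCat.Presheaf.algebra_section_stalk _ ⟨ι' p, hp₁⟩
  haveI := hU₁.isLocalization_stalk ⟨ι' p, hp₁⟩
  let r : Fin rs.length → (φ.fiber s).presheaf.stalk (ι' p) := fun j => algebraMap Γ(φ.fiber s, U₁) _ (rs.get j)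
  have hrq : CAlgX.IsQuasiRegular r := isQuasiRegular_map (hU₁.primeIdealOf ⟨ι' p, hp₁⟩).asIdeal.primeCompl hrs
  have hk₁ : RingHom.ker (ι'.stalkMap p).hom = Ideal.span (Set.range r) := by
    rw [RegIdealLib.ker_stalkMap ι' hU₁ hc₁ p hp₁]
    show (RingHom.ker (ι'.app U₁).hom).map _ = _
    rw [hK₁, show Ideal.ofList rs = Ideal.span (Set.range rs.get) from by rw [← RegIdealLib.ofList_ofFn, List.ofFn_get],
      Ideal.map_span, ← Set.range_comp]
    rfl
  let π := ((φ.fiberι s).stalkMap (ι' p)).hom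
  have hs := FlatLocus.fiberι_stalkMap_surjective φ s (ι' p)
  have hker := FlatLocus.ker_fiberι_stalkMap φ s (ι' p)
  let J := IntMult.stalkIdeal I x
  have hJ : J.map π = RingHom.ker (ι'.stalkMap p).hom := by
    obtain ⟨U, hxU, -⟩ := BlowCompLib.exists_affine_le (𝟙 X) x (U := ⊤) trivial
    obtain ⟨V, hwV, e⟩ := BlowCompLib.exists_affine_le (φ.fiberι s) (ι' p) hxU
    obtain ⟨hcV, hkV⟩ := closed_and_ker_pullback (IsPullback.of_hasPullback I.subschemeι (φ.fiberι s)) U.2
      (IsZariskiLocalAtTarget.restrict (P := @IsClosedImmersion) (inferInstanceAs (IsClosedImmersion I.subschemeι)) U.1) V.2 e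
    rw [RegIdealLib.ker_stalkMap ι' V.2 hcV p hwV]
    show (IntMult.stalkIdeal I x).map π = (RingHom.ker (ι'.app V.1).hom).map _
    rw [hkV, I.ker_subschemeι_app U, IdealStalkLib.stalkIdeal_eq I U x hxU, Ideal.map_map, Ideal.map_map,
      ← CommRingCat.hom_comp, ← CommRingCat.hom_comp, Scheme.Hom.germ_stalkMap, Scheme.Hom.appLE, Category.assoc,
      (φ.fiber s).presheaf.germ_res]
  rw [hk₁] at hJ
  choose h hhJ hhr using fun j => (Ideal.mem_map_iff_of_surjective π hs).1 (hJ.ge (Ideal.subset_span (Set.mem_range_self j) : r j ∈ Ideal.span (Set.range r)))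
  refine ⟨rs.length, h, hhJ, ?_, ?_⟩
  · refine (Ideal.le_comap_map (f := π)).trans (le_of_eq ?_)
    rw [hJ, show r = π ∘ h from funext fun j => (hhr j).symm, Set.range_comp, ← Ideal.map_span,
      Ideal.comap_map_of_surjective _ hs, ← RingHom.ker_eq_comap_bot, hker]
  · let e := (Ideal.quotEquivOfEq hker.symm).trans (RingHom.quotientKerEquivOfSurjective hs)
    haveI : LocallyOfFiniteType (φ.fiberToSpecResidueField s) :=
      MorphismProperty.pullback_snd _ _ (inferInstanceAs (LocallyOfFiniteType φ))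
    haveI : IsLocallyNoetherian (φ.fiber s) := LocallyOfFiniteType.isLocallyNoetherian (φ.fiberToSpecResidueField s)
    have hjac : Ideal.span (Set.range r) ≤ Ideal.jacobson ⊥ := by
      rw [← hk₁, IsLocalRing.jacobson_eq_maximalIdeal ⊥ bot_ne_top]
      exact le_maximalIdeal (RingHom.ker_ne_top _)
    have hwr := Groth.Agent.QRegLib.isWeaklyRegular_of_isQuasiRegular r hjac hrq
    rw [show r = fun j => e (Ideal.Quotient.mk _ (h j)) from funext fun j => (hhr j).symm] at hwr
    refine (e.toAddEquiv.isWeaklyRegular_congr ?_).2 hwr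
    refine List.forall₂_iff_get.2 ⟨by simp, fun i h₁ h₂ y => ?_⟩
    simp only [List.get_eq_getElem, List.getElem_ofFn, smul_eq_mul]
    exact map_mul e _ _

theorem isRelRegularImmersion_of_fibres (φ : X ⟶ S) [Flat φ] [LocallyOfFinitePresentation φ]
    (I : X.IdealSheafData) [Flat (I.subschemeι ≫ φ)] [LocallyOfFinitePresentation (I.subschemeι ≫ φ)]
    (hfib : ∀ s : S, RegImm.IsRegularImmersion RegImm.Kind.quasi (pullback.snd I.subschemeι (φ.fiberι s))) :
    RegImm.IsRelRegularImmersion RegImm.Kind.quasi φ I.subschemeι := by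
  refine ⟨⟨inferInstance, fun z => ?_⟩, inferInstance⟩
  haveI : LocallyOfFinitePresentation I.subschemeι :=
    FlatLocus.locallyOfFinitePresentation_of_comp (f := I.subschemeι) (g := φ)
  set x := I.subschemeι z with hxdef
  have hx : x ∈ I.support := by
    rw [← SetLike.mem_coe, ← I.range_subschemeι]
    exact Set.mem_range_self z
  have hlift : ∃ (n : ℕ) (h : Fin n → X.presheaf.stalk x), (∀ j, h j ∈ IntMult.stalkIdeal I x) ∧
      IntMult.stalkIdeal I x ≤ Ideal.span (Set.range h) ⊔ Ideal.map (φ.stalkMap x).hom (maximalIdeal (S.presheaf.stalk (φ x))) ∧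
      IsWeaklyRegular (↑(X.presheaf.stalk x) ⧸ Ideal.map (φ.stalkMap x).hom (maximalIdeal ↑(S.presheaf.stalk (φ x))))
        (List.ofFn fun j => Ideal.Quotient.mk (Ideal.map (φ.stalkMap x).hom (maximalIdeal ↑(S.presheaf.stalk (φ x)))) (h j)) := by
    have h1 := exists_fibre_lifts φ I (φ x) (φ.asFiber x) (by rw [φ.fiberι_asFiber x]; exact hx) (hfib _)
    dsimp only at h1
    rw [φ.fiberι_asFiber x] at h1
    exact h1
  obtain ⟨n, h, hh, hle, hwr⟩ := hlift
  have hm : ∀ j, h j ∈ maximalIdeal (X.presheaf.stalk x) := fun j => IdealStalkLib.stalkIdeal_le_maximal I hx (hh j)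
  obtain ⟨W, U, hW, hU, hxU, e, b, hb, hfl⟩ := RegSeqSlice.exists_flat_coordinates φ x (Flat.stalkMap φ x) h hm hwr
  let A := S.presheaf.stalk (φ x)
  let O := X.presheaf.stalk x
  let J := IntMult.stalkIdeal I x
  letI : Algebra A O := (φ.stalkMap x).hom.toAlgebra
  letI : Algebra Γ(X, U) O := TopCat.Presheaf.algebra_section_stalk X.presheaf ⟨x, hxU⟩
  haveI := hU.isLocalization_stalk ⟨x, hxU⟩
  have hfg : (I.ideal ⟨U, hU⟩).FG := by
    have h1 := I.subschemeι.finitePresentation_appLE hU (hU.preimage I.subschemeι) le_rfl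
    rw [← Scheme.Hom.app_eq_appLE] at h1
    letI := (I.subschemeι.app U).hom.toAlgebra
    haveI : Algebra.FinitePresentation Γ(X, U) Γ(I.subscheme, I.subschemeι ⁻¹ᵁ U) := h1
    rw [← I.ker_subschemeι_app ⟨U, hU⟩]
    exact Algebra.FinitePresentation.ker_fG_of_surjective (Algebra.ofId Γ(X, U) Γ(I.subscheme, I.subschemeι ⁻¹ᵁ U))
      (I.subschemeι.app_surjective U hU)
  have hJU : J = (I.ideal ⟨U, hU⟩).map (algebraMap Γ(X, U) O) := IdealStalkLib.stalkIdeal_eq I ⟨U, hU⟩ x hxU
  have hker : RingHom.ker (I.subschemeι.stalkMap z).hom = J := IdealStalkLib.ker_stalkMap_subschemeι I z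
  haveI : Module.Flat A (O ⧸ J) := by
    have h1 : ((I.subschemeι ≫ φ).stalkMap z).hom.Flat := Flat.stalkMap _ z
    rw [Scheme.Hom.stalkMap_comp] at h1
    let eq : (O ⧸ J) ≃+* I.subscheme.presheaf.stalk z :=
      (Ideal.quotEquivOfEq hker.symm).trans (RingHom.quotientKerEquivOfSurjective (I.subschemeι.stalkMap_surjective z))
    letI := ((φ.stalkMap (I.subschemeι z)) ≫ I.subschemeι.stalkMap z).hom.toAlgebra
    haveI : Module.Flat A (I.subscheme.presheaf.stalk z) := h1
    exact Module.Flat.of_linearEquiv (AlgEquiv.ofRingEquiv (f := eq) (fun a => rfl)).toLinearEquiv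
  have hsub : Ideal.span (Set.range h) ≤ J := Ideal.span_le.2 (Set.range_subset_iff.2 hh)
  have hJ : J = Ideal.span (Set.range h) := by
    refine le_antisymm ?_ hsub
    refine Submodule.le_of_le_smul_of_le_jacobson_bot (I := maximalIdeal O) (by rw [hJU]; exact hfg.map _)
      (maximalIdeal_le_jacobson _) fun v hv => ?_
    obtain ⟨a, ha, c, hc, rfl⟩ := Submodule.mem_sup.1 (hle hv)
    refine Submodule.add_mem_sup ha ?_
    have hcJ : c ∈ J := by simpa using sub_mem hv (hsub ha)
    have h2 := IdealStalkLib.mem_map_mul_of_flat_quotient J (maximalIdeal A) hcJ hc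
    refine Ideal.mul_mono_left ?_ h2
    exact ((local_hom_TFAE (algebraMap A O)).out 0 2).1 (show IsLocalHom (φ.stalkMap x).hom from inferInstance)
  obtain ⟨t, htq, ht⟩ := IdealStalkLib.exists_notMem_map_away_eq (O := O) (hU.primeIdealOf ⟨x, hxU⟩).asIdeal
    (I.ideal ⟨U, hU⟩) (Ideal.span (Set.range b)) hfg (Submodule.fg_span (Set.finite_range b)) (by
      rw [← hJU, hJ, Ideal.map_span, ← Set.range_comp]
      exact congrArg Ideal.span (congrArg Set.range (funext fun j => (hb j).symm)))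
  letI : Algebra Γ(X, U) Γ(X, X.basicOpen t) := (X.presheaf.map (homOfLE (X.basicOpen_le t)).op).hom.toAlgebra
  haveI : IsLocalization.Away t Γ(X, X.basicOpen t) := hU.isLocalization_basicOpen t
  letI : Algebra Γ(S, W) Γ(X, U) := (φ.appLE W U e).hom.toAlgebra
  letI : Algebra (MvPolynomial (Fin n) Γ(S, W)) Γ(X, U) := (MvPolynomial.aeval (R := Γ(S, W)) b).toRingHom.toAlgebra
  haveI : IsScalarTower Γ(S, W) (MvPolynomial (Fin n) Γ(S, W)) Γ(X, U) := IsScalarTower.of_algHom (MvPolynomial.aeval b)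
  haveI : Module.Flat (MvPolynomial (Fin n) Γ(S, W)) Γ(X, U) := hfl
  have hq : CAlgX.IsQuasiRegular b := by
    have h1 := RegSeqSlice.isWeaklyRegular_of_flat (A := Γ(S, W)) (B := Γ(X, U)) (n := n)
    rw [show (fun j : Fin n => algebraMap (MvPolynomial (Fin n) Γ(S, W)) Γ(X, U) (MvPolynomial.X j)) = b from
      funext fun j => MvPolynomial.aeval_X b j] at h1
    exact Groth.Agent.QRegLib.isQuasiRegular_of_isWeaklyRegular b h1
  refine ⟨⟨X.basicOpen t, hU.basicOpen t⟩,
    (X.mem_basicOpen t x hxU).2 (IsLocalization.map_units O (⟨t, htq⟩ : (hU.primeIdealOf ⟨x, hxU⟩).asIdeal.primeCompl)),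
    IsZariskiLocalAtTarget.restrict (P := @IsClosedImmersion) (inferInstanceAs (IsClosedImmersion I.subschemeι)) _,
    List.ofFn fun j => algebraMap Γ(X, U) Γ(X, X.basicOpen t) (b j),
    (seq_ofFn _ (Or.inr rfl) _).2 (by rw [if_neg (by decide)]; exact isQuasiRegular_map (Submonoid.powers t) hq), ?_⟩
  rw [I.ker_subschemeι_app ⟨X.basicOpen t, hU.basicOpen t⟩, RegIdealLib.ofList_ofFn]
  refine (I.map_ideal_basicOpen ⟨U, hU⟩ t).symm.trans ?_
  show (I.ideal ⟨U, hU⟩).map (algebraMap Γ(X, U) Γ(X, X.basicOpen t)) = _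
  rw [ht _ (IsLocalization.Away.algebraMap_isUnit t), Ideal.map_span, ← Set.range_comp]
  rfl

end Groth.Agent.RelDivLib
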