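import Mathlib
import Groth.Agent.RelDivLib.Scheme
import Groth.Agent.IdealStalkLib.Cartier
import Groth.Prelude.Def_CurvBase

/-! Locally principal ideals, effective Cartier on all fibres. -/

set_option autoImplicit false
set_option backward.isDefEq.respectTransparency false
set_option backward.defeqAttrib.useBackward true
set_option linter.style.haveILetI false

universe u

open CategoryTheory CategoryTheory.Limits AlgebraicGeometry IsLocalRing RingTheory.Sequence

namespace Groth.Agent.RelDivLib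

variable {X S : Scheme.{u}}

/-- A generator of a stalk ideal which is a nonzerodivisor on the fibre gives a chart flat over the base. -/
theorem exists_chart_of_fibre (φ : X ⟶ S) [LocallyOfFinitePresentation φ] [Flat φ] (I : X.IdealSheafData) {x : X}
    (hx : x ∈ I.support) (hZ : ∃ U : X.affineOpens, x ∈ U.1 ∧ ∃ g : Γ(X, U.1), I.ideal U = Ideal.span {g})
    (hfib : BlowUp.IsEffCartierIdeal (I.comap (φ.fiberι (φ x)))) :
    ∃ (W : S.affineOpens) (V : X.affineOpens) (e : V.1 ≤ φ ⁻¹ᵁ W.1), x ∈ V.1 ∧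
      (∃ c, c ∈ nonZeroDivisors Γ(X, V.1) ∧ I.ideal V = Ideal.span {c}) ∧
      (letI := (φ.appLE W.1 V.1 e).hom.toAlgebra; Module.Flat Γ(S, W.1) (Γ(X, V.1) ⧸ I.ideal V)) := by
  obtain ⟨U₀, hxU₀, g, hg⟩ := hZ
  let h := X.presheaf.germ U₀.1 x hxU₀ g
  have hI : IntMult.stalkIdeal I x = Ideal.span {h} := by
    rw [IdealStalkLib.stalkIdeal_eq I U₀ x hxU₀, hg, Ideal.map_span, Set.image_singleton]
  have hnz : Ideal.Quotient.mk (Ideal.map (φ.stalkMap x).hom (maximalIdeal (S.presheaf.stalk (φ x)))) h ∈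
      nonZeroDivisors (↑(X.presheaf.stalk x) ⧸ Ideal.map (φ.stalkMap x).hom (maximalIdeal (S.presheaf.stalk (φ x)))) := by
    suffices H : ∀ (s : S), BlowUp.IsEffCartierIdeal (I.comap (φ.fiberι s)) → ∀ (z : φ.fiber s), let x' := φ.fiberι s z;
        ∀ h' : X.presheaf.stalk x', IntMult.stalkIdeal I x' = Ideal.span {h'} →
          Ideal.Quotient.mk (Ideal.map (φ.stalkMap x').hom (maximalIdeal (S.presheaf.stalk (φ x')))) h' ∈
            nonZeroDivisors (↑(X.presheaf.stalk x') ⧸ Ideal.map (φ.stalkMap x').hom (maximalIdeal (S.presheaf.stalk (φ x')))) by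
      have h1 := H (φ x) hfib (φ.asFiber x)
      rw [φ.fiberι_asFiber x] at h1
      exact h1 h hI
    intro s hs0 z x' h' hh'
    obtain ⟨W, hzW, c, hc, hcW⟩ := hs0 z
    let π := ((φ.fiberι s).stalkMap z).hom
    have hs := FlatLocus.fiberι_stalkMap_surjective φ s z
    have hker := FlatLocus.ker_fiberι_stalkMap φ s z
    letI : Algebra Γ(φ.fiber s, W) ((φ.fiber s).presheaf.stalk z) := TopCat.Presheaf.algebra_section_stalk _ ⟨z, hzW⟩
    haveI := W.2.isLocalization_stalk ⟨z, hzW⟩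
    let cz : (φ.fiber s).presheaf.stalk z := algebraMap Γ(φ.fiber s, W) _ c
    have hcz : cz ∈ nonZeroDivisors _ :=
      IsLocalization.map_nonZeroDivisors_le (W.2.primeIdealOf ⟨z, hzW⟩).asIdeal.primeCompl _ ⟨c, hc, rfl⟩
    have h2 : Ideal.span {π h'} = Ideal.span {cz} := by
      rw [← Set.image_singleton, ← Ideal.map_span, ← hh', ← IdealStalkLib.stalkIdeal_comap,
        IdealStalkLib.stalkIdeal_eq _ W z hzW, hcW, Ideal.map_span, Set.image_singleton]
      rfl
    obtain ⟨s', hs'⟩ := Ideal.mem_span_singleton.1 (h2.ge (Ideal.mem_span_singleton_self cz))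
    let e := (Ideal.quotEquivOfEq hker.symm).trans (RingHom.quotientKerEquivOfSurjective hs)
    refine mem_nonZeroDivisors_iff_right.2 fun w hw => e.injective ?_
    rw [map_zero]
    refine mem_nonZeroDivisors_iff_right.1 hcz _ ?_
    rw [hs', show π h' = e (Ideal.Quotient.mk _ h') from rfl, ← mul_assoc, ← map_mul, hw, map_zero, zero_mul]
  have hm : h ∈ maximalIdeal (X.presheaf.stalk x) :=
    IdealStalkLib.stalkIdeal_le_maximal I hx (hI.ge (Ideal.mem_span_singleton_self h))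
  obtain ⟨W, U, hW, hU, hxU, e, b, hb, hfl⟩ := RegSeqSlice.exists_flat_coordinates φ x (Flat.stalkMap φ x)
    (fun _ : Fin 1 => h) (fun _ => hm) (by
      simp only [List.ofFn_succ, List.ofFn_zero]
      rw [isWeaklyRegular_singleton_iff]
      intro a c hac
      simp only [smul_eq_mul] at hac
      exact (isRegular_iff_mem_nonZeroDivisors.2 hnz).left hac)
  obtain ⟨N, hxN, i₁, i₂, heq⟩ := TopCat.Presheaf.germ_eq X.presheaf x hxU hxU₀ (b 0) g (hb 0)
  obtain ⟨t, htle, hxt⟩ := hU.exists_basicOpen_le (V := N) ⟨x, hxN⟩ hxU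
  let ρ : Γ(X, U) →+* Γ(X, X.basicOpen t) := (X.presheaf.map (homOfLE (X.basicOpen_le t)).op).hom
  have hV0 : X.basicOpen t ≤ U₀.1 := htle.trans i₂.le
  have hρb : ρ (b 0) = X.presheaf.map (homOfLE hV0).op g := by
    have := congrArg (X.presheaf.map (homOfLE htle).op) heq
    rw [← ConcreteCategory.comp_apply, ← ConcreteCategory.comp_apply, ← Functor.map_comp, ← Functor.map_comp] at this
    exact this
  have hIV : I.ideal ⟨X.basicOpen t, hU.basicOpen t⟩ = Ideal.span {ρ (b 0)} := by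
    rw [hρb, ← I.map_ideal (U := ⟨X.basicOpen t, hU.basicOpen t⟩) (V := U₀) hV0, hg, Ideal.map_span, Set.image_singleton]
    rfl
  have e' : X.basicOpen t ≤ φ ⁻¹ᵁ W := (X.basicOpen_le t).trans e
  refine ⟨⟨W, hW⟩, ⟨X.basicOpen t, hU.basicOpen t⟩, e', hxt, ?_⟩
  letI : Algebra Γ(S, W) Γ(X, U) := (φ.appLE W U e).hom.toAlgebra
  letI : Algebra Γ(S, W) Γ(X, X.basicOpen t) := (φ.appLE W (X.basicOpen t) e').hom.toAlgebra
  letI : Algebra Γ(X, U) Γ(X, X.basicOpen t) := ρ.toAlgebra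
  haveI : IsScalarTower Γ(S, W) Γ(X, U) Γ(X, X.basicOpen t) :=
    IsScalarTower.of_algebraMap_eq fun r => (congrArg (fun ψ => ψ.hom r) (Scheme.Hom.appLE_map φ e (homOfLE (X.basicOpen_le t)).op)).symm
  letI : Algebra (MvPolynomial (Fin 1) Γ(S, W)) Γ(X, U) := (MvPolynomial.aeval (R := Γ(S, W)) b).toRingHom.toAlgebra
  let b' : Fin 1 → Γ(X, X.basicOpen t) := fun i => ρ (b i)
  letI : Algebra (MvPolynomial (Fin 1) Γ(S, W)) Γ(X, X.basicOpen t) := (MvPolynomial.aeval (R := Γ(S, W)) b').toRingHom.toAlgebra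
  haveI : IsScalarTower Γ(S, W) (MvPolynomial (Fin 1) Γ(S, W)) Γ(X, X.basicOpen t) := IsScalarTower.of_algHom (MvPolynomial.aeval b')
  haveI : IsScalarTower (MvPolynomial (Fin 1) Γ(S, W)) Γ(X, U) Γ(X, X.basicOpen t) :=
    IsScalarTower.of_algebraMap_eq fun p =>
      (MvPolynomial.comp_aeval_apply b (IsScalarTower.toAlgHom Γ(S, W) Γ(X, U) Γ(X, X.basicOpen t)) p).symm
  haveI : IsLocalization.Away t Γ(X, X.basicOpen t) := hU.isLocalization_basicOpen t
  haveI : Module.Flat Γ(X, U) Γ(X, X.basicOpen t) := IsLocalization.flat _ (Submonoid.powers t)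
  haveI : Module.Flat (MvPolynomial (Fin 1) Γ(S, W)) Γ(X, U) := hfl
  haveI : Module.Flat (MvPolynomial (Fin 1) Γ(S, W)) Γ(X, X.basicOpen t) := Module.Flat.trans _ Γ(X, U) _
  have hX : algebraMap (MvPolynomial (Fin 1) Γ(S, W)) Γ(X, X.basicOpen t) (MvPolynomial.X 0) = ρ (b 0) := MvPolynomial.aeval_X b' 0
  refine ⟨⟨ρ (b 0), ?_, hIV⟩, ?_⟩
  · have h1 := RegSeqSlice.isWeaklyRegular_of_flat (A := Γ(S, W)) (B := Γ(X, X.basicOpen t)) (n := 1)
    simp only [List.ofFn_succ, List.ofFn_zero, isWeaklyRegular_singleton_iff, hX] at h1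
    exact mem_nonZeroDivisors_iff_right.2 fun z hz => h1 (by simp only [smul_eq_mul, mul_zero]; rw [mul_comm, hz])
  · refine RegSeqSlice.flat_quot (n := 1) _ ?_
    rw [hIV]
    simp only [List.ofFn_succ, List.ofFn_zero, hX, Ideal.ofList_cons, Ideal.ofList_nil, sup_bot_eq]

end Groth.Agent.RelDivLib
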