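import Mathlib
import Groth.Agent.RelDivLib.Scheme
import Groth.Agent.IdealStalkLib.Cartier
import Groth.Agent.FlatLocus.Main
import Groth.Agent.FlatLocus.Scheme

/-! A morphism of finite presentation is flat along a relative effective Cartier divisor. -/

set_option autoImplicit false
set_option backward.isDefEq.respectTransparency false
set_option backward.defeqAttrib.useBackward true
set_option linter.style.haveILetI false

universe u

open CategoryTheory CategoryTheory.Limits AlgebraicGeometry TensorProduct Polynomial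

namespace Groth.Agent.RelDivLib

/-- If `T` is injective on `M` and `M/TM` is flat over `A`, then `M ⊗ p' → M` is injective for ideals `p'` containing `T`. -/
theorem lTensor_subtype_injective_of_quot {A M : Type u} [CommRing A] [AddCommGroup M] [Module A[X] M] [Module A M]
    [IsScalarTower A A[X] M] (hT : Function.Injective fun m : M => (X : A[X]) • m)
    [Module.Flat A (M ⧸ LinearMap.range (DistribSMul.toLinearMap A M (X : A[X])))] (p' : Ideal A[X]) (hp' : X ∈ p') :
    Function.Injective (p'.subtype.lTensor M) := by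
  let μ : M →ₗ[A] M := DistribSMul.toLinearMap A M (X : A[X])
  let p : Ideal A := p'.comap C
  let ι : M ⊗[A] p →ₗ[A] M ⊗[A[X]] p' := TensorProduct.lift (LinearMap.mk₂ A
    (fun m a => m ⊗ₜ[A[X]] (⟨C a.1, a.2⟩ : p'))
    (fun m m' a => TensorProduct.add_tmul m m' _)
    (fun c m a => (TensorProduct.smul_tmul' c m _).symm)
    (fun m a b => by rw [← TensorProduct.tmul_add]; congr 1; exact Subtype.ext (map_add C a.1 b.1))
    (fun c m a => by
      rw [← TensorProduct.tmul_smul]
      congr 1
      exact Subtype.ext (show C (c * a.1) = c • C a.1 by rw [map_mul, smul_eq_C_mul])))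
  have hι : ∀ (m : M) (a : p), ι (m ⊗ₜ a) = m ⊗ₜ[A[X]] (⟨C a.1, a.2⟩ : p') := fun m a => rfl
  let val : M ⊗[A[X]] p' →ₗ[A[X]] M := (TensorProduct.rid A[X] M).toLinearMap ∘ₗ p'.subtype.lTensor M
  have hval : ∀ w, val (ι w) = TensorProduct.rid A M (p.subtype.lTensor M w) := fun w => by
    induction w with
    | zero => simp
    | tmul m a =>
      rw [hι]
      show C a.1 • m = a.1 • m
      exact algebraMap_smul A[X] a.1 m
    | add u v hu hv => simp only [map_add, hu, hv]
  have hdec : ∀ z : M ⊗[A[X]] p', ∃ (m₀ : M) (w : M ⊗[A] p), z = m₀ ⊗ₜ (⟨X, hp'⟩ : p') + ι w := fun z => by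
    induction z with
    | zero => exact ⟨0, 0, by simp⟩
    | tmul m f =>
      have hc : C (f.1.coeff 0) ∈ p' := by
        have h2 := sub_mem f.2 (Ideal.mul_mem_right f.1.divX p' hp')
        rwa [show f.1 - X * f.1.divX = C (f.1.coeff 0) by linear_combination -(X_mul_divX_add f.1)] at h2
      refine ⟨f.1.divX • m, m ⊗ₜ[A] ⟨f.1.coeff 0, hc⟩, ?_⟩
      rw [hι, TensorProduct.smul_tmul, ← TensorProduct.tmul_add]
      congr 1
      refine Subtype.ext ?_
      show f.1 = f.1.divX * X + C (f.1.coeff 0)
      exact (divX_mul_X_add f.1).symm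
    | add u v hu hv =>
      obtain ⟨m, w, rfl⟩ := hu
      obtain ⟨m', w', rfl⟩ := hv
      exact ⟨m + m', w + w', by rw [TensorProduct.add_tmul, map_add]; abel⟩
  have himg : ∀ w : M ⊗[A] p, ∃ m : M, ι (μ.rTensor p w) = m ⊗ₜ (⟨X, hp'⟩ : p') := fun w => by
    induction w with
    | zero => exact ⟨0, by simp⟩
    | tmul m a =>
      refine ⟨a.1 • m, ?_⟩
      rw [LinearMap.rTensor_tmul, hι, ← algebraMap_smul A[X] a.1 m, TensorProduct.smul_tmul]
      show ((X : A[X]) • m) ⊗ₜ[A[X]] _ = _
      rw [TensorProduct.smul_tmul]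
      congr 1
      exact Subtype.ext (mul_comm _ _)
    | add u v hu hv =>
      obtain ⟨m, hm⟩ := hu
      obtain ⟨m', hm'⟩ := hv
      exact ⟨m + m', by rw [map_add, map_add, hm, hm', TensorProduct.add_tmul]⟩
  refine (injective_iff_map_eq_zero _).2 fun z hz => ?_
  have hz' : val z = 0 := by
    show TensorProduct.rid A[X] M (p'.subtype.lTensor M z) = 0
    rw [hz, map_zero]
  obtain ⟨m₀, w, rfl⟩ := hdec z
  let q : M →ₗ[A] M ⧸ LinearMap.range μ := (LinearMap.range μ).mkQ
  have h1 : q.rTensor p w = 0 := by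
    refine Module.Flat.lTensor_preserves_injective_linearMap (M := M ⧸ LinearMap.range μ) p.subtype Subtype.val_injective ?_
    rw [map_zero, ← LinearMap.comp_apply, LinearMap.lTensor_comp_rTensor, ← LinearMap.rTensor_comp_lTensor, LinearMap.comp_apply]
    refine (TensorProduct.rid A (M ⧸ LinearMap.range μ)).injective ?_
    have h2 : ∀ v : M ⊗[A] A, TensorProduct.rid A (M ⧸ LinearMap.range μ) (q.rTensor A v) = q (TensorProduct.rid A M v) := fun v => by
      induction v with
      | zero => simp
      | tmul m a => rw [LinearMap.rTensor_tmul, TensorProduct.rid_tmul, TensorProduct.rid_tmul, map_smul]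
      | add u v hu hv => simp only [map_add, hu, hv]
    rw [h2, map_zero, ← hval]
    rw [map_add] at hz'
    refine (Submodule.Quotient.mk_eq_zero _).2 ⟨-m₀, ?_⟩
    show (X : A[X]) • (-m₀) = val (ι w)
    rw [smul_neg, eq_comm, ← add_eq_zero_iff_eq_neg, add_comm]
    exact hz'
  obtain ⟨w', rfl⟩ := (rTensor_exact p (LinearMap.exact_map_mkQ_range μ) (Submodule.mkQ_surjective _) w).1 h1
  obtain ⟨m₁, hm₁⟩ := himg w'
  rw [hm₁, ← TensorProduct.add_tmul] at hz' ⊢
  have h3 : (X : A[X]) • (m₀ + m₁) = (X : A[X]) • (0 : M) := by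
    rw [smul_zero]
    exact hz'
  rw [hT h3, TensorProduct.zero_tmul]

variable {X S : Scheme.{u}}

theorem flat_stalkMap_of_relCartier (f : X ⟶ S) [LocallyOfFinitePresentation f] (I : X.IdealSheafData)
    (hI : BlowUp.IsEffCartierIdeal I) [Flat (I.subschemeι ≫ f)] (d : I.subscheme) :
    (f.stalkMap (I.subschemeι d)).hom.Flat := by
  set x := I.subschemeι d
  obtain ⟨W, V, e, hxV, ⟨h, hh, hIV⟩, -⟩ := exists_common_chart f hI hI x
  rw [FlatLocus.flat_stalkMap_iff f W.2 V.2 e x hxV]
  let A := Γ(S, W.1)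
  let B := Γ(X, V.1)
  let q := (V.2.primeIdealOf ⟨x, hxV⟩).asIdeal
  let O := X.presheaf.stalk x
  let M := LocalizedModule q.primeCompl B
  letI : Algebra A B := (f.appLE W.1 V.1 e).hom.toAlgebra
  letI : Algebra A[X] B := (Polynomial.aeval (R := A) h).toRingHom.toAlgebra
  haveI : IsScalarTower A A[X] B := IsScalarTower.of_algHom (Polynomial.aeval h)
  haveI : Algebra.FinitePresentation A B := f.finitePresentation_appLE W.2 V.2 e
  haveI : Algebra.FinitePresentation A[X] B := Algebra.FinitePresentation.of_restrict_scalars_finitePresentation A A[X] B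
  have hXh : algebraMap A[X] B Polynomial.X = h := Polynomial.aeval_X h
  letI : Algebra B O := TopCat.Presheaf.algebra_section_stalk X.presheaf ⟨x, hxV⟩
  haveI := V.2.isLocalization_stalk ⟨x, hxV⟩
  let a : O := algebraMap B O h
  have ha : a ∈ nonZeroDivisors O := IsLocalization.map_nonZeroDivisors_le q.primeCompl O ⟨h, hh, rfl⟩
  have hspan : IntMult.stalkIdeal I x = Ideal.span {a} := by
    rw [IdealStalkLib.stalkIdeal_eq I V x hxV, hIV, Ideal.map_span, Set.image_singleton]
    rfl
  have hk : RingHom.ker (I.subschemeι.stalkMap d).hom = Ideal.span {a} := (IdealStalkLib.ker_stalkMap_subschemeι I d).trans hspan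
  have hsupp : x ∈ I.support := by
    rw [← SetLike.mem_coe, ← I.range_subschemeι]
    exact Set.mem_range_self d
  have hXq : Polynomial.X ∈ q.comap (algebraMap A[X] B) := by
    rw [Ideal.mem_comap, hXh, ← IsLocalization.AtPrime.to_map_mem_maximal_iff O q]
    exact IdealStalkLib.stalkIdeal_le_maximal I hsupp (hspan.ge (Ideal.mem_span_singleton_self a))
  let E : M ≃ₗ[B] O := IsLocalizedModule.iso q.primeCompl (Algebra.linearMap B O)
  let Q := I.subscheme.presheaf.stalk d
  let π : O →+* Q := (I.subschemeι.stalkMap d).hom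
  letI algAQ : Algebra A Q := (π.comp ((algebraMap B O).comp (algebraMap A B))).toAlgebra
  haveI hQ : Module.Flat A Q := by
    have h1 : ((I.subschemeι ≫ f).stalkMap d).hom.Flat := Flat.stalkMap _ d
    rw [Scheme.Hom.stalkMap_comp] at h1
    letI : Algebra A (S.presheaf.stalk (f x)) := TopCat.Presheaf.algebra_section_stalk S.presheaf ⟨f x, e hxV⟩
    haveI := W.2.isLocalization_stalk ⟨f x, e hxV⟩
    letI : Algebra (S.presheaf.stalk (f x)) Q := ((f.stalkMap x) ≫ I.subschemeι.stalkMap d).hom.toAlgebra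
    haveI : Module.Flat (S.presheaf.stalk (f x)) Q := h1
    haveI : IsScalarTower A (S.presheaf.stalk (f x)) Q := .of_algebraMap_eq fun r => by
      show π (X.presheaf.germ V.1 x hxV (f.appLE W.1 V.1 e r)) = π (f.stalkMap x (S.presheaf.germ W.1 (f x) (e hxV) r))
      refine congrArg π ?_
      rw [Scheme.Hom.germ_stalkMap_apply, Scheme.Hom.appLE, CommRingCat.comp_apply, X.presheaf.germ_res_apply]
    exact (Module.flat_iff_of_isLocalization (S.presheaf.stalk (f x))
      (W.2.primeIdealOf ⟨f x, e hxV⟩).asIdeal.primeCompl Q).1 inferInstance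
  let L : M →ₗ[A] Q :=
    { toFun := fun m => π (E m)
      map_add' := fun m m' => by rw [map_add, map_add]
      map_smul' := fun c m => by
        rw [RingHom.id_apply, ← algebraMap_smul B c m, map_smul, Algebra.smul_def, map_mul, Algebra.smul_def]
        rfl }
  have hXM : ∀ m : M, E ((Polynomial.X : A[X]) • m) = a * E m := fun m => by
    rw [← algebraMap_smul B (Polynomial.X : A[X]) m, hXh, map_smul, Algebra.smul_def]
  have hLk : LinearMap.ker L = LinearMap.range (DistribSMul.toLinearMap A M (Polynomial.X : A[X])) := by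
    ext m
    show π (E m) = 0 ↔ ∃ m', (Polynomial.X : A[X]) • m' = m
    rw [← RingHom.mem_ker, hk, Ideal.mem_span_singleton]
    constructor
    · rintro ⟨c, hc⟩
      exact ⟨E.symm c, E.injective (by rw [hXM, E.apply_symm_apply, hc])⟩
    · rintro ⟨m', rfl⟩
      exact ⟨E m', hXM m'⟩
  haveI : Module.Flat A (M ⧸ LinearMap.range (DistribSMul.toLinearMap A M (Polynomial.X : A[X]))) :=
    Module.Flat.of_linearEquiv ((Submodule.quotEquivOfEq _ _ hLk.symm).trans
      (L.quotKerEquivOfSurjective ((I.subschemeι.stalkMap_surjective d).comp E.surjective)))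
  have hinj := lTensor_subtype_injective_of_quot (A := A) (M := M) (fun m m' hm => E.injective
    ((mul_cancel_left_mem_nonZeroDivisors ha).1 (by rw [← hXM, ← hXM]; exact congrArg E hm))) _ hXq
  haveI : Module.Flat A[X] M := FlatLocus.flat_of_lTensor_injective_fp q hinj
  exact Module.Flat.trans A A[X] M

theorem exists_flat_nhd (f : X ⟶ S) [LocallyOfFinitePresentation f] (I : X.IdealSheafData)
    (hI : BlowUp.IsEffCartierIdeal I) [Flat (I.subschemeι ≫ f)] :
    ∃ U : X.Opens, (I.support : Set X) ⊆ U ∧ Flat (U.ι ≫ f) := by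
  refine ⟨⟨_, FlatLocus.isOpen_flat_stalkMap f⟩, fun x hx => ?_, ?_⟩
  · rw [← I.range_subschemeι] at hx
    obtain ⟨d, rfl⟩ := hx
    exact flat_stalkMap_of_relCartier f I hI d
  · rw [Flat.iff_flat_stalkMap]
    intro x
    rw [Scheme.Hom.stalkMap_comp, CommRingCat.hom_comp]
    exact RingHom.Flat.comp x.2 (Flat.stalkMap _ x)

end Groth.Agent.RelDivLib
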